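import Cfsg.Agent.Lib.H16.G24M.ModTw
import Cfsg.Agent.Lib.H16.U62M.P1.DataT0
import Cfsg.Agent.Lib.H16.U62M.P1.DataT1
import Cfsg.Agent.Lib.H16.U62M.P1.DataT2
import Cfsg.Agent.Lib.H16.U62M.P1.DataT3

set_option autoImplicit false
set_option maxRecDepth 100000

/-! # Data of the monomial coset enumeration (generated) -/

namespace Cfsg.Agent.Lib.H16.U62M.P1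

open Cfsg.Agent.Lib.H17.CosetCert (BT WT)
open Cfsg.Agent.Lib.H17.MonoCert
open Cfsg.Agent.Lib.H16.G24M

/-- the modulus of the twists -/
abbrev NN : ℕ := 23887872

/-- the packed facts -/
def factTree : BT := .node (.node (sub0) (sub1)) (.node (sub2) (sub3))

/-- the fact with a given number -/
noncomputable def F (f : ℕ) : (ℕ × ℕ × ℕ) × List ℕ :=
  factOfN factTree 2048 16 1008 2743062034396844341627968125593604635037196317966166035056000994228098690879836473582587849768181396806642362668936055872479091931372323951612051859122835149807249350355003132267795098895967012320756270631179897595796976964454084495146379250195728106130226298287754794921070036903071843030324651025760256 15 32768 25 33554432 39 f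

/-- the words -/
def words : WT := .node (.node (.node (.node (.node (.node (.node (.node (.node (.leaf [0] false) (.leaf [0, 0, 0, 0, 0, 0, 0, 0, 0, 0, 0] true)) (.node (.leaf [0, 0, 0, 4, 0, 3, 1, 5, 2, 4, 0, 0, 0, 4, 4, 4] true) (.nil))) (.node (.node (.leaf [0, 0, 0, 0, 5, 0, 5, 5, 5, 5, 1, 1, 4, 4] true) (.nil)) (.node (.leaf [0, 0, 2, 4, 2, 0, 4, 3, 4, 0, 5, 5, 0, 0, 3, 4] true) (.nil)))) (.node (.node (.node (.leaf [0, 3, 4, 3, 4, 2, 1, 5, 3, 3, 4, 4, 4, 4, 4] true) (.nil)) (.node (.leaf [0, 3, 0, 5, 2, 2, 0, 4, 4, 1, 5, 1, 4, 4, 1, 3] true) (.nil))) (.node (.node (.leaf [0, 0, 3, 3, 0, 4, 0, 0, 5, 1, 1, 5, 3, 3, 4, 4] true) (.nil)) (.node (.leaf [0, 2, 1, 4, 3, 5, 3, 1, 5, 3, 5, 5, 5, 2, 5, 5] true)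 (.nil))))) (.node (.node (.node (.node (.leaf [0, 3, 4, 3, 4, 2, 5, 3, 4, 1, 4, 4, 2] true) (.leaf [0, 0, 0, 0, 0, 0, 0, 0, 0, 0, 0] true)) (.node (.leaf [0, 2, 2, 1, 5, 5, 0, 5, 5, 3, 4, 0, 4, 2, 5, 5] true) (.nil))) (.node (.node (.leaf [0, 0, 5, 5, 5, 5, 5, 5, 5, 1, 4, 3, 1, 2, 5, 5] true) (.nil)) (.node (.leaf [0, 0, 4, 3, 5, 2, 4, 4, 2, 2, 0, 4, 4, 0, 3, 4] true) (.nil)))) (.node (.node (.node (.leaf [0, 0, 0, 5, 2, 0, 4, 4, 1, 1, 5, 1, 4, 3, 5, 5] true) (.nil)) (.node (.leaf [0, 2, 4, 1, 2, 4, 2, 0, 4, 3, 0, 4, 1, 4, 1, 4] true) (.nil))) (.node (.node (.leaf [0, 2, 5, 5, 2, 4, 4, 3, 3, 0, 4, 1, 4, 4, 1, 2] true) (.nil)) (.node (.leaf [0, 0, 0, 0, 0, 0, 0, 0, 0, 0, 0] true) (.nil)))))) (.node (.node (.node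 (.node (.node (.leaf [2, 3] true) (.leaf [0, 0, 0, 0, 0, 0, 0, 0, 0, 0, 0] true)) (.node (.leaf [0, 0, 0, 4, 1, 1, 5, 2, 4, 4, 4, 1, 4, 1, 5] true) (.nil))) (.node (.node (.leaf [0, 0, 0, 4, 1, 4, 1, 4, 1, 5, 5, 5, 1, 1, 4, 4] true) (.nil)) (.node (.leaf [0, 4, 4, 3, 4, 3, 5, 3, 4, 2, 2, 0, 5, 5, 5, 2] true) (.nil)))) (.node (.node (.node (.leaf [0, 2, 4, 2, 5, 0, 2, 4, 2, 5, 0, 2, 4, 2, 5] true) (.nil)) (.node (.leaf [0, 2, 1, 2, 4, 4, 1, 5, 1, 4, 4, 0, 3, 1, 3, 5] true) (.nil))) (.node (.node (.leaf [0, 0, 4, 4, 1, 3, 5, 0, 5, 5, 0, 2, 0, 2, 4] true) (.nil)) (.node (.leaf [0, 0, 0, 0, 0, 0, 0, 0, 0, 0, 0] true) (.nil))))) (.node (.node (.node (.node (.leaf [0, 0, 3, 3, 4, 4, 1, 4, 2, 0, 5, 5, 1, 1, 5] true)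 (.nil)) (.node (.leaf [0, 0, 4, 0, 4, 4, 1, 4, 0, 3, 1, 3, 4, 4, 3, 5] true) (.nil))) (.node (.node (.leaf [0, 0, 4, 0, 3, 3, 1, 5, 5, 3, 3, 5, 1, 1, 4] true) (.nil)) (.node (.leaf [0, 0, 5, 3, 4, 1, 4, 2, 4, 1, 5, 5, 0, 3, 5, 3] true) (.nil)))) (.node (.node (.node (.leaf [0, 0, 3, 3, 0, 2, 0, 2] true) (.nil)) (.node (.leaf [0, 0, 2, 0, 2, 5, 5, 0, 2, 4, 1, 4, 3, 4, 3, 5] true) (.nil))) (.node (.node (.leaf [0, 0, 4, 2, 2, 0, 2, 4, 3, 4, 2, 5, 0, 0, 4, 4] true) (.nil)) (.node (.leaf [0, 0, 0, 0, 0, 0, 0, 0, 0, 0, 0] true) (.nil))))))) (.node (.node (.node (.node (.node (.node (.leaf [2, 0, 3, 1, 1, 1] true) (.leaf [0, 0, 0, 0, 0, 0, 0, 0, 0, 0, 0] true)) (.node (.leaf [0, 0, 5, 3, 4, 1, 4, 3, 1, 2, 2, 5, 1,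 2, 5, 2] true) (.nil))) (.node (.node (.leaf [0, 0, 0, 4, 3, 4, 3, 3, 3, 3, 5, 3, 4, 1, 4, 4] true) (.nil)) (.node (.leaf [0, 2, 5, 3, 5, 1, 5, 0, 3, 0, 4, 1, 4, 2, 4, 4] true) (.nil)))) (.node (.node (.node (.leaf [0, 5, 5, 2, 4, 4, 2, 5, 5, 3, 5, 3, 3, 4, 4] true) (.nil)) (.node (.leaf [0, 0, 5, 5, 1, 3, 1, 2, 0, 4, 1, 4, 4, 4, 4] true) (.nil))) (.node (.node (.leaf [0, 3, 5, 5, 0, 4, 0, 5, 5, 1, 3, 3, 4, 3, 3] true) (.nil)) (.node (.leaf [0, 4, 0, 4, 3, 4, 3, 4, 4, 0, 4, 0, 5, 2, 5, 2] true) (.nil))))) (.node (.node (.node (.node (.leaf [0, 0, 4, 2, 2, 4, 4, 2, 0, 2, 5, 1, 1, 5] true) (.nil)) (.node (.leaf [0, 0, 5, 0, 2, 1, 3, 5, 3, 3, 4, 4, 3, 1, 3, 4] true) (.nil))) (.node (.node (.leaf [0, 0, 2, 1, 5,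 1, 4, 4, 4, 3, 1, 4, 0, 4, 0, 5] true) (.nil)) (.node (.leaf [0, 0, 4, 2, 1, 4, 1, 4, 2, 0, 4, 4, 2, 0, 0, 5] true) (.nil)))) (.node (.node (.node (.leaf [0, 0, 2, 2, 0, 3, 3] true) (.nil)) (.node (.leaf [0, 0, 2, 4, 1, 2, 4, 2, 0, 4, 0, 3, 1, 5, 0, 5] true) (.nil))) (.node (.node (.leaf [0, 0, 3, 3, 1, 4, 2, 5, 2, 5, 0, 5, 3, 1, 4, 4] true) (.nil)) (.node (.leaf [0, 0, 0, 0, 0, 0, 0, 0, 0, 0, 0] true) (.nil)))))) (.node (.node (.node (.node (.node (.leaf [0, 4, 0, 4, 0, 4, 0, 4] true) (.leaf [0, 0, 0, 0, 0, 0, 0, 0, 0, 0, 0] true)) (.node (.leaf [0, 2, 0, 5, 5, 1, 3, 3, 4, 3, 4, 3, 4, 4, 1, 4] true) (.nil))) (.node (.node (.leaf [0, 0, 5, 5, 2, 1, 3, 1, 4, 1, 4, 4, 4, 4] true) (.nil)) (.node (.leaf [0, 0, 3,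 4, 1, 4, 2, 5, 3, 1, 3, 5, 2, 4, 2, 5] true) (.nil)))) (.node (.node (.node (.leaf [0, 0, 4, 4, 1, 5, 5, 1, 4, 4, 1, 3, 4, 1, 4, 2] true) (.nil)) (.node (.leaf [0, 0, 4, 0, 4, 1, 2, 5, 3, 5, 1, 5, 1, 2, 4, 3] true) (.nil))) (.node (.node (.leaf [0, 3, 0, 4, 3, 5, 2, 5, 1, 2, 2, 5, 5, 2, 4, 4] true) (.nil)) (.node (.leaf [0, 0, 0, 0, 0, 0, 0, 0, 0, 0, 0] true) (.nil))))) (.node (.node (.node (.node (.leaf [0, 0, 5, 2, 4, 2, 0, 3, 4, 0, 5, 2, 4, 3, 5] true) (.nil)) (.node (.leaf [0, 0, 5, 1, 4, 1, 4, 0, 5, 5, 0, 4, 1, 4, 1, 5] true) (.nil))) (.node (.node (.leaf [0, 0, 0, 5, 1, 5, 1, 4, 1, 2, 4, 0, 5, 5, 5, 3] true) (.nil)) (.node (.leaf [0, 0, 2, 4, 3, 4, 3, 3, 4, 1, 4, 3, 0, 5, 0, 4] true) (.nil)))) (.node (.node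 (.node (.leaf [0, 2, 0, 2, 2, 2, 1, 2] true) (.nil)) (.node (.leaf [0, 0, 5, 2, 4, 2, 2, 0, 4, 1, 4, 3, 4, 3, 1, 4] true) (.nil))) (.node (.node (.leaf [0, 0, 4, 1, 3, 3, 1, 5, 5, 0, 5, 2, 0, 0, 4, 4] true) (.nil)) (.node (.leaf [0, 0, 0, 0, 0, 0, 0, 0, 0, 0, 0] true) (.nil)))))))) (.node (.node (.node (.node (.node (.node (.node (.leaf [0, 0, 0, 0, 0, 0, 0, 0, 0, 0, 0] true) (.leaf [0, 0, 0, 0, 0, 0, 0, 0, 0, 0, 0] true)) (.node (.leaf [0, 0, 0, 4, 0, 3, 1, 5, 2, 4, 2, 0, 3, 4, 4, 4] true) (.nil))) (.node (.node (.leaf [0, 0, 0, 4, 3, 4, 2, 5, 3, 4, 1, 4, 4] true) (.nil)) (.node (.leaf [0, 4, 0, 5, 5, 5, 2, 0, 5, 1, 5, 5, 3, 0, 4, 3] true) (.nil)))) (.node (.node (.node (.leaf [0, 0, 5, 3, 5, 0, 2, 5, 5, 0,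 2, 2, 5, 1, 4] true) (.nil)) (.node (.leaf [0, 0, 2, 4, 1, 4, 4, 4, 4, 0, 0, 5, 5, 1, 3] true) (.nil))) (.node (.node (.leaf [0, 0, 3, 4, 0, 0, 5, 1, 1, 5, 3, 3, 4, 4, 1, 3] true) (.nil)) (.node (.leaf [0, 0, 4, 4, 3, 4, 4, 4, 2, 4, 0, 2, 4, 2, 5, 3] true) (.nil))))) (.node (.node (.node (.node (.leaf [0, 0, 2, 5, 5, 5, 0, 4, 3, 0, 4, 4, 0, 4] true) (.leaf [0, 0, 0, 0, 0, 0, 0, 0, 0, 0, 0] true)) (.node (.leaf [0, 0, 4, 3, 4, 4, 2, 5, 5, 3, 0, 3, 0, 5, 3, 5] true) (.nil))) (.node (.node (.leaf [0, 0, 2, 1, 5, 1, 4, 4, 4, 1, 3, 0, 5, 1, 5, 5] true) (.nil)) (.node (.leaf [0, 0, 5, 1, 4, 3, 3, 5, 1, 2, 4, 1, 4, 3, 5, 5] true) (.nil)))) (.node (.node (.node (.leaf [0, 0, 5, 0, 5, 3, 5, 5, 2, 5, 0, 5, 3, 3, 0, 4]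 true) (.nil)) (.node (.leaf [0, 3, 4, 1, 2, 4, 0, 5, 5, 2, 0, 4, 0, 4, 3, 5] true) (.nil))) (.node (.node (.leaf [0, 4, 4, 1, 5, 2, 4, 1, 4, 3, 4, 3, 5, 5, 2, 2] true) (.nil)) (.node (.leaf [0, 0, 0, 0, 0, 0, 0, 0, 0, 0, 0] true) (.nil)))))) (.node (.node (.node (.node (.node (.leaf [4, 5] true) (.leaf [0, 0, 0, 0, 0, 0, 0, 0, 0, 0, 0] true)) (.node (.leaf [0, 2, 5, 0, 5, 5, 5, 5, 2, 1, 3, 0, 4, 4, 3] true) (.nil))) (.node (.node (.leaf [0, 0, 0, 0, 4, 4, 1, 1, 5, 5, 5, 5, 0, 5] true) (.nil)) (.node (.leaf [0, 0, 3, 1, 4, 1, 4, 4, 1, 2, 2, 5, 1, 1, 5, 5] true) (.nil)))) (.node (.node (.node (.leaf [0, 3, 0, 4, 0, 4, 2, 1, 4, 2, 0, 4, 0, 4, 3, 5] true) (.nil)) (.node (.leaf [0, 2, 1, 5, 3, 5, 1, 5, 1, 2, 4, 3,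 0, 5, 1, 5] true) (.nil))) (.node (.node (.leaf [0, 0, 4, 4, 1, 3, 5, 0, 5, 5, 3, 0, 3, 3, 4] true) (.nil)) (.node (.leaf [0, 0, 0, 0, 0, 0, 0, 0, 0, 0, 0] true) (.nil))))) (.node (.node (.node (.node (.leaf [0, 0, 3, 4, 2, 5, 2, 5, 0, 5, 3, 1, 4, 4, 3] true) (.nil)) (.node (.leaf [0, 3, 4, 0, 4, 1, 2, 4, 4, 2, 2, 4, 4, 1, 4, 4] true) (.nil))) (.node (.node (.leaf [0, 3, 5, 1, 5, 1, 4, 1, 2, 4, 0, 5, 5, 5] true) (.nil)) (.node (.leaf [0, 0, 4, 3, 1, 3, 5, 5, 2, 2, 2, 5, 1, 1, 4] true) (.nil)))) (.node (.node (.node (.leaf [0, 0, 3, 3, 3, 0, 3, 3] true) (.nil)) (.node (.leaf [0, 2, 0, 4, 3, 5, 3, 0, 4, 1, 5, 5, 3, 0, 2, 5] true) (.nil))) (.node (.node (.leaf [0, 0, 0, 5, 5, 0, 2, 4, 1, 4, 3, 4, 3, 5, 2, 2] true)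 (.nil)) (.node (.leaf [0, 0, 0, 0, 0, 0, 0, 0, 0, 0, 0] true) (.nil))))))) (.node (.node (.node (.node (.node (.node (.leaf [0, 1] true) (.leaf [0, 0, 0, 0, 0, 0, 0, 0, 0, 0, 0] true)) (.node (.leaf [0, 2, 5, 0, 5, 1, 4, 1, 4, 4, 4, 2, 1, 4, 4, 2] true) (.nil))) (.node (.node (.leaf [0, 3, 4, 2, 5, 3, 4, 0, 4, 4, 4, 0, 5, 0, 5] true) (.nil)) (.node (.leaf [0, 0, 0, 4, 0, 5, 2, 4, 3, 5, 0, 0, 5, 2, 4] true) (.nil)))) (.node (.node (.node (.leaf [0, 0, 4, 4, 1, 3, 3, 4, 3, 4, 2, 5, 5, 0, 4, 4] true) (.nil)) (.node (.leaf [0, 0, 4, 1, 5, 5, 1, 1, 5, 5, 1, 4, 0, 0, 4, 4] true) (.nil))) (.node (.node (.leaf [0, 0, 3, 5, 2, 2, 0, 4, 4, 1, 5, 1, 4, 4, 3] true) (.nil)) (.node (.leaf [0, 0, 2, 0, 3, 1, 3, 1, 2] true)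 (.nil))))) (.node (.node (.node (.node (.leaf [0, 0, 4, 1, 1, 5, 2, 0, 2, 5, 5, 2, 2, 4] true) (.nil)) (.node (.leaf [0, 0, 3, 4, 4, 3, 5, 0, 5, 1, 5, 1, 4, 1, 4, 3] true) (.nil))) (.node (.node (.leaf [0, 0, 4, 1, 4, 2, 2, 2, 4, 0, 3, 3, 4, 2, 4] true) (.nil)) (.node (.leaf [0, 0, 5, 2, 1, 3, 0, 5, 3, 3, 4, 4, 3, 1, 3, 4] true) (.nil)))) (.node (.node (.node (.leaf [0, 2, 0, 3, 3, 1, 2] true) (.nil)) (.node (.leaf [0, 0, 0, 5, 2, 5, 2, 5, 3, 1, 2, 5, 5, 5, 1, 5] true) (.nil))) (.node (.node (.leaf [0, 2, 4, 2, 2, 4, 4, 3, 4, 4, 4, 4, 1, 5, 0, 5] true) (.nil)) (.node (.leaf [0, 0, 0, 0, 0, 0, 0, 0, 0, 0, 0] true) (.nil)))))) (.node (.node (.node (.node (.node (.leaf [0, 4, 1, 5, 0, 4, 1, 5, 0, 4, 1, 5] true)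 (.leaf [0, 0, 0, 0, 0, 0, 0, 0, 0, 0, 0] true)) (.node (.leaf [0, 5, 2, 4, 1, 5, 3, 3, 4, 4, 4, 4, 4, 3, 5, 5] true) (.nil))) (.node (.node (.leaf [0, 0, 3, 0, 4, 1, 4, 4, 4, 4, 0, 0, 5, 5, 2] true) (.nil)) (.node (.leaf [0, 0, 5, 3, 1, 5, 2, 5, 3, 4, 3, 1, 4, 0, 5, 3] true) (.nil)))) (.node (.node (.node (.leaf [0, 3, 0, 5, 5, 3, 0, 5, 5, 3, 3, 4, 4, 4, 3, 4] true) (.nil)) (.node (.leaf [0, 0, 4, 0, 4, 2, 4, 3, 0, 2, 4, 3, 0, 2, 4, 3] true) (.nil))) (.node (.node (.leaf [0, 2, 2, 0, 5, 5, 3, 4, 4, 0, 3, 3, 5, 5, 0, 5] true) (.nil)) (.node (.leaf [0, 0, 0, 0, 0, 0, 0, 0, 0, 0, 0] true) (.nil))))) (.node (.node (.node (.node (.leaf [0, 2, 5, 5, 2, 2, 4, 1, 4, 0, 5, 0, 5, 5, 5] true) (.nil)) (.node (.leaf [0,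 0, 4, 4, 4, 1, 5, 3, 0, 5, 5, 1, 5, 0, 2] true) (.nil))) (.node (.node (.leaf [0, 2, 5, 5, 2, 5, 2, 2, 1, 5, 2, 2, 5, 1, 5, 2] true) (.nil)) (.node (.leaf [0, 3, 4, 1, 2, 5, 5, 2, 1, 4, 2, 1, 2, 4, 4, 3] true) (.nil)))) (.node (.node (.node (.leaf [0, 0, 4, 4, 4, 4, 1, 4, 2, 1, 3, 1, 5, 5] true) (.nil)) (.node (.leaf [0, 2, 4, 3, 4, 2, 5, 3, 4, 1, 4, 4, 1, 3] true) (.nil))) (.node (.node (.leaf [0, 0, 4, 2, 1, 3, 0, 5, 2, 0, 2, 5, 5, 2, 2, 4] true) (.nil)) (.node (.leaf [0, 0, 0, 0, 0, 0, 0, 0, 0, 0, 0] true) (.nil))))))))) (.node (.node (.node (.node (.node (.node (.node (.node (.leaf [2] false) (.leaf [0, 0, 0, 0, 0, 0, 0, 0, 0, 0, 0] true)) (.node (.leaf [0, 0, 0, 4, 3, 0, 0, 5, 2, 4, 0, 0, 0, 4, 4, 4] true)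 (.nil))) (.node (.node (.leaf [0, 0, 4, 4, 4, 4, 1, 4, 1, 2, 1, 3, 5, 5] true) (.nil)) (.node (.leaf [0, 0, 3, 4, 1, 2, 0, 4, 2, 0, 4, 3, 4, 0, 5, 5] true) (.nil)))) (.node (.node (.node (.leaf [0, 0, 5, 3, 4, 2, 4, 1, 3, 4, 1, 5, 0, 2, 5] true) (.nil)) (.node (.leaf [0, 0, 5, 0, 3, 0, 4, 3, 4, 1, 2, 2, 5, 0, 3, 4] true) (.nil))) (.node (.node (.leaf [0, 0, 2, 2, 5, 2, 2, 5, 0, 5, 1, 1, 5, 3, 5] true) (.nil)) (.node (.leaf [0, 4, 3, 4, 1, 3, 4, 3, 4, 3, 0, 4, 4, 0, 5, 3] true) (.nil))))) (.node (.node (.node (.node (.leaf [0, 0, 5, 5, 3, 1, 2, 4, 1, 4, 4, 4, 4] true) (.leaf [0, 0, 0, 0, 0, 0, 0, 0, 0, 0, 0] true)) (.node (.leaf [0, 0, 4, 3, 4, 4, 2, 5, 5, 1, 1, 3, 3, 5, 3, 5] true) (.nil))) (.node (.node (.leaf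 [0, 4, 1, 2, 0, 5, 5, 5, 0, 4, 3, 0, 4, 4] true) (.nil)) (.node (.leaf [0, 4, 4, 4, 1, 3, 4, 3, 4, 4, 1, 2, 2, 4, 2, 5] true) (.nil)))) (.node (.node (.node (.leaf [0, 3, 5, 3, 4, 3, 4, 0, 5, 1, 3, 0, 5, 5, 0, 5] true) (.nil)) (.node (.leaf [0, 0, 2, 4, 0, 5, 0, 5, 5, 5, 3, 4, 0, 0, 5, 3] true) (.nil))) (.node (.node (.leaf [0, 2, 4, 1, 4, 3, 4, 3, 5, 3, 3, 0, 3, 5, 5] true) (.nil)) (.node (.leaf [0, 0, 0, 0, 0, 0, 0, 0, 0, 0, 0] true) (.nil)))))) (.node (.node (.node (.node (.node (.leaf [3, 2] true) (.leaf [0, 0, 0, 0, 0, 0, 0, 0, 0, 0, 0] true)) (.node (.leaf [0, 0, 4, 3, 4, 4, 1, 3, 3, 5, 0, 4, 4, 2, 5, 2] true) (.nil))) (.node (.node (.leaf [0, 2, 0, 3, 1, 2, 1, 3] true) (.nil)) (.node (.leaf [0, 5, 2,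 5, 5, 2, 4, 4, 1, 2, 2, 5, 3, 4, 3, 4] true) (.nil)))) (.node (.node (.node (.leaf [0, 0, 2, 4, 1, 2, 4, 2, 0, 4, 3, 0, 0, 5, 0, 5] true) (.nil)) (.node (.leaf [0, 0, 4, 1, 5, 0, 4, 1, 5, 0, 4, 4, 0, 4, 0, 4] true) (.nil))) (.node (.node (.leaf [0, 0, 4, 4, 1, 3, 5, 0, 5, 5, 3, 0, 2, 2, 2, 4] true) (.nil)) (.node (.leaf [0, 0, 0, 0, 0, 0, 0, 0, 0, 0, 0] true) (.nil))))) (.node (.node (.node (.node (.leaf [0, 3, 3, 5, 5, 0, 5, 1, 2, 2, 5, 5, 3, 4, 4] true) (.nil)) (.node (.leaf [0, 4, 2, 5, 5, 3, 5, 2, 4, 1, 4, 1, 4, 2, 2, 5] true) (.nil))) (.node (.node (.leaf [0, 0, 4, 2, 2, 4, 4, 2, 0, 2, 5, 0, 2, 1, 3, 5] true) (.nil)) (.node (.leaf [0, 0, 4, 2, 4, 0, 4, 1, 1, 4, 4, 2, 4, 2, 0, 5] true) (.nil)))) (.node (.node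 (.node (.leaf [0, 0, 3, 0, 3, 0, 2, 2] true) (.nil)) (.node (.leaf [0, 0, 4, 1, 1, 3, 3, 4, 3, 4, 2, 5, 0, 0, 4, 4] true) (.nil))) (.node (.node (.leaf [0, 0, 4, 3, 0, 3, 0, 4, 3, 4, 2, 5, 0, 0, 4, 4] true) (.nil)) (.node (.leaf [0, 0, 0, 0, 0, 0, 0, 0, 0, 0, 0] true) (.nil))))))) (.node (.node (.node (.node (.node (.node (.leaf [4, 4, 4, 4, 4, 4, 4, 4, 4, 4, 4] true) (.leaf [0, 0, 0, 0, 0, 0, 0, 0, 0, 0, 0] true)) (.node (.leaf [0, 0, 5, 1, 2, 5, 2, 0, 0, 5, 3, 4, 1, 4, 0, 2] true) (.nil))) (.node (.node (.leaf [0, 0, 0, 4, 2, 2, 2, 2, 4, 2, 5, 3, 4, 1, 4, 4] true) (.nil)) (.node (.leaf [0, 0, 5, 5, 1, 3, 4, 2, 1, 3, 4, 4, 2, 5, 0, 4] true) (.nil)))) (.node (.node (.node (.leaf [0, 4, 4, 1, 2, 4, 3, 5, 5, 1,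 4, 4, 2, 5, 2] true) (.nil)) (.node (.leaf [0, 0, 4, 3, 0, 4, 0, 3, 0, 5, 0, 5, 2, 4, 0, 3] true) (.nil))) (.node (.node (.leaf [0, 2, 5, 2, 2, 0, 4, 4, 1, 5, 1, 4, 4, 1, 2, 2] true) (.nil)) (.node (.leaf [0, 3, 4, 0, 5, 5, 2, 2, 5, 5, 3, 5, 2, 4, 0, 5] true) (.nil))))) (.node (.node (.node (.node (.leaf [0, 3, 0, 4, 0, 4, 4, 1, 2, 4, 0, 5, 5, 5] true) (.nil)) (.node (.leaf [0, 2, 1, 5, 0, 5, 0, 4, 0, 4, 1, 4, 2, 5, 5, 2] true) (.nil))) (.node (.node (.leaf [0, 0, 0, 3, 5, 1, 5, 5, 1, 2, 5, 1, 4, 4, 4] true) (.nil)) (.node (.leaf [0, 0, 4, 2, 2, 2, 0, 5, 5, 0, 5, 2, 0, 0, 4, 4] true) (.nil)))) (.node (.node (.node (.leaf [0, 2, 1, 2, 1, 3, 3] true) (.nil)) (.node (.leaf [0, 2, 1, 5, 1, 3, 5, 3, 0, 5, 1, 3, 0,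 4, 1, 4] true) (.nil))) (.node (.node (.leaf [0, 2, 4, 1, 4, 3, 4, 3, 5, 1, 2, 1, 2, 0, 5, 5] true) (.nil)) (.node (.leaf [0, 0, 0, 0, 0, 0, 0, 0, 0, 0, 0] true) (.nil)))))) (.node (.node (.node (.node (.node (.leaf [0, 5, 0, 5, 0, 5, 0, 5, 0, 5] true) (.leaf [0, 0, 0, 0, 0, 0, 0, 0, 0, 0, 0] true)) (.node (.leaf [0, 2, 5, 1, 4, 4, 1, 2, 2, 0, 4, 3, 4, 4, 1, 4] true) (.nil))) (.node (.node (.leaf [0, 0, 0, 0, 4, 4, 0, 2, 1, 3, 5, 5, 5, 5, 0, 5] true) (.nil)) (.node (.leaf [0, 2, 4, 3, 5, 3, 4, 3, 0, 5, 5, 5, 5, 3, 0, 4] true) (.nil)))) (.node (.node (.node (.leaf [0, 2, 4, 4, 1, 5, 0, 5, 2, 2, 0, 4, 0, 3, 3, 5] true) (.nil)) (.node (.leaf [0, 2, 1, 5, 3, 0, 4, 0, 4, 2, 4, 3, 0, 5, 1, 5] true) (.nil))) (.node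 (.node (.leaf [0, 3, 0, 3, 4, 1, 4, 4, 2, 2, 1, 5, 5, 2, 4, 4] true) (.nil)) (.node (.leaf [0, 0, 0, 0, 0, 0, 0, 0, 0, 0, 0] true) (.nil))))) (.node (.node (.node (.node (.leaf [0, 0, 5, 3, 4, 1, 4, 1, 2, 1, 5, 1, 2, 5, 2] true) (.nil)) (.node (.leaf [0, 2, 4, 0, 4, 1, 2, 4, 4, 2, 4, 0, 4, 2, 5, 5] true) (.nil))) (.node (.node (.leaf [0, 2, 4, 0, 4, 4, 1, 2, 4, 0, 5, 5, 5, 3, 3] true) (.nil)) (.node (.leaf [0, 4, 1, 2, 0, 4, 3, 4, 3, 3, 4, 1, 4, 3, 0, 5] true) (.nil)))) (.node (.node (.node (.leaf [0, 2, 1, 2, 1, 2, 2, 2] true) (.nil)) (.node (.leaf [0, 0, 2, 5, 5, 0, 5, 2, 4, 3, 5, 2, 5, 3] true) (.nil))) (.node (.node (.leaf [0, 0, 4, 1, 4, 4, 1, 2, 2, 5, 1, 1, 5, 5, 0, 3] true) (.nil)) (.node (.leaf [0, 0,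 0, 0, 0, 0, 0, 0, 0, 0, 0] true) (.nil)))))))) (.node (.node (.node (.node (.node (.node (.node (.leaf [2, 2, 2, 2, 2] true) (.leaf [0, 0, 0, 0, 0, 0, 0, 0, 0, 0, 0] true)) (.node (.leaf [0, 0, 3, 1, 4, 3, 0, 4, 0, 3, 0, 5, 0, 5, 2, 4] true) (.nil))) (.node (.node (.leaf [0, 0, 0, 4, 3, 4, 2, 5, 2, 2, 2, 2, 4, 1, 4, 4] true) (.nil)) (.node (.leaf [0, 0, 5, 5, 5, 5, 0, 5, 3, 0, 2, 4, 4, 3, 1, 2] true) (.nil)))) (.node (.node (.node (.leaf [0, 2, 5, 5, 0, 5, 5, 3, 4, 0, 4, 2, 5, 5, 2] true) (.nil)) (.node (.leaf [0, 0, 3, 5, 5, 0, 0, 4, 4, 4, 4, 1, 4, 0, 2] true) (.nil))) (.node (.node (.leaf [0, 0, 4, 1, 1, 5, 3, 3, 0, 3, 0, 5, 5, 2, 2, 4] true) (.nil)) (.node (.leaf [0, 4, 0, 4, 3, 4, 3, 4, 1, 5, 1, 5, 5, 2,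 5, 2] true) (.nil))))) (.node (.node (.node (.node (.leaf [0, 0, 4, 1, 4, 3, 3, 4, 0, 3, 3, 4, 2, 4] true) (.nil)) (.node (.leaf [0, 0, 4, 3, 4, 4, 2, 5, 5, 2, 2, 0, 2, 5, 3, 5] true) (.nil))) (.node (.node (.leaf [0, 2, 5, 5, 5, 0, 4, 3, 0, 4, 1, 5, 1, 5] true) (.nil)) (.node (.leaf [0, 2, 2, 0, 4, 2, 5, 2, 5, 0, 5, 3, 1, 4, 4, 2] true) (.nil)))) (.node (.node (.node (.leaf [0, 0, 0, 0, 3, 1, 2] true) (.nil)) (.node (.leaf [0, 3, 4, 1, 2, 4, 0, 5, 5, 2, 5, 1, 5, 1, 3, 5] true) (.nil))) (.node (.node (.leaf [0, 2, 4, 1, 4, 3, 4, 3, 5, 3, 1, 3, 3, 0, 5, 5] true) (.nil)) (.node (.leaf [0, 0, 0, 0, 0, 0, 0, 0, 0, 0, 0] true) (.nil)))))) (.node (.node (.node (.node (.node (.leaf [5, 4] true) (.leaf [0, 0, 0, 0,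 0, 0, 0, 0, 0, 0, 0] true)) (.node (.leaf [0, 0, 0, 0, 5, 0, 5, 5, 5, 5, 2, 1, 3, 0, 4, 4] true) (.nil))) (.node (.node (.leaf [0, 0, 5, 5, 1, 2, 1, 3, 4, 1, 4, 4, 4, 4] true) (.nil)) (.node (.leaf [0, 0, 2, 4, 1, 5, 2, 5, 2, 4, 2, 1, 4, 1, 4, 4] true) (.nil)))) (.node (.node (.node (.leaf [0, 2, 4, 3, 4, 3, 4, 2, 1, 3, 4, 0, 4, 4, 4, 3] true) (.nil)) (.node (.leaf [0, 0, 4, 0, 4, 1, 2, 5, 3, 0, 4, 0, 4, 2, 4, 3] true) (.nil))) (.node (.node (.leaf [0, 0, 4, 4, 1, 3, 5, 0, 5, 5, 3, 3, 1, 3, 0, 4] true) (.nil)) (.node (.leaf [0, 0, 0, 0, 0, 0, 0, 0, 0, 0, 0] true) (.nil))))) (.node (.node (.node (.node (.leaf [0, 0, 4, 3, 3, 0, 5, 5, 0, 5, 2, 0, 0, 4, 4] true) (.nil)) (.node (.leaf [0, 2, 2, 5, 0, 4, 2, 5, 5,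 3, 5, 2, 0, 5, 0, 5] true) (.nil))) (.node (.node (.leaf [0, 0, 2, 1, 4, 0, 5, 5, 5, 0, 3, 5, 1, 5, 1, 4] true) (.nil)) (.node (.leaf [0, 4, 1, 4, 2, 4, 2, 5, 5, 0, 4, 1, 5, 5, 3, 3] true) (.nil)))) (.node (.node (.node (.leaf [0, 0, 2, 2, 0, 2, 2, 2] true) (.nil)) (.node (.leaf [0, 0, 4, 4, 1, 3, 5, 0, 5, 5, 1, 3, 3, 0, 3, 4] true) (.nil))) (.node (.node (.leaf [0, 0, 4, 0, 3, 0, 3, 5, 5, 0, 5, 2, 0, 0, 4, 4] true) (.nil)) (.node (.leaf [0, 0, 0, 0, 0, 0, 0, 0, 0, 0, 0] true) (.nil))))))) (.node (.node (.node (.node (.node (.node (.leaf [1, 0] true) (.leaf [0, 0, 0, 0, 0, 0, 0, 0, 0, 0, 0] true)) (.node (.leaf [0, 0, 5, 2, 1, 3, 4, 0, 5, 0, 5, 5, 5, 3, 4] true) (.nil))) (.node (.node (.leaf [0, 4, 4, 4, 4,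 1, 4, 1, 4, 3, 4, 2, 5, 3, 4] true) (.nil)) (.node (.leaf [0, 0, 4, 1, 1, 5, 2, 0, 2, 5, 5, 3, 3, 3, 4] true) (.nil)))) (.node (.node (.node (.leaf [0, 2, 4, 3, 0, 2, 4, 3, 0, 5, 1, 5, 1, 2, 4, 3] true) (.nil)) (.node (.leaf [0, 0, 4, 4, 3, 3, 1, 5, 5, 0, 5, 2, 5, 0, 4, 4] true) (.nil))) (.node (.node (.leaf [0, 0, 4, 2, 0, 2, 1, 5, 5, 0, 4, 0, 5, 5, 3, 3] true) (.nil)) (.node (.leaf [0, 0, 0, 0, 0, 0, 0, 0, 0, 0, 0] true) (.nil))))) (.node (.node (.node (.node (.leaf [0, 2, 1, 5, 5, 0, 4, 0, 5, 5, 1, 3, 3, 4, 2] true) (.nil)) (.node (.leaf [0, 3, 5, 0, 5, 0, 4, 0, 4, 1, 4, 2, 5, 5, 3, 3] true) (.nil))) (.node (.node (.leaf [0, 0, 4, 1, 4, 3, 3, 4, 0, 2, 2, 2, 4, 2, 4] true) (.nil)) (.node (.leaf [0, 2, 1, 4,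 2, 1, 4, 4, 0, 5, 3, 5, 0, 5, 2, 4] true) (.nil)))) (.node (.node (.node (.leaf [0, 0, 0, 3, 0, 0, 2] true) (.nil)) (.node (.leaf [0, 0, 0, 4, 4, 1, 1, 5, 5, 5, 1, 4, 1, 4, 1, 4] true) (.nil))) (.node (.node (.leaf [0, 0, 3, 4, 4, 0, 0, 4, 3, 0, 2, 5, 5, 2, 4, 4] true) (.nil)) (.node (.leaf [0, 0, 0, 0, 0, 0, 0, 0, 0, 0, 0] true) (.nil)))))) (.node (.node (.node (.node (.node (.leaf [0, 0, 4, 4, 4, 4, 1, 4, 3, 1, 2, 5, 5] true) (.leaf [0, 0, 0, 0, 0, 0, 0, 0, 0, 0, 0] true)) (.node (.leaf [0, 3, 4, 3, 4, 2, 1, 5, 3, 3, 5, 5, 5, 5, 5, 5] true) (.nil))) (.node (.node (.leaf [0, 2, 4, 4, 2, 1, 3, 0, 5, 5, 5, 5, 0, 5, 3] true) (.nil)) (.node (.leaf [0, 2, 1, 4, 1, 5, 0, 2, 5, 2, 4, 3, 4, 0, 2, 4] true) (.nil))))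 (.node (.node (.node (.leaf [0, 0, 3, 5, 2, 0, 0, 5, 5, 1, 3, 5, 0, 2, 0, 5] true) (.nil)) (.node (.leaf [0, 2, 1, 5, 3, 1, 2, 5, 3, 1, 2, 5, 3, 5, 1, 5] true) (.nil))) (.node (.node (.leaf [0, 3, 3, 5, 5, 0, 5, 1, 3, 3, 3, 5, 5, 3, 4, 4] true) (.nil)) (.node (.leaf [0, 0, 0, 0, 0, 0, 0, 0, 0, 0, 0] true) (.nil))))) (.node (.node (.node (.node (.leaf [0, 2, 5, 1, 4, 4, 2, 1, 2, 4, 3, 4, 4, 1, 4] true) (.nil)) (.node (.leaf [0, 0, 5, 5, 3, 1, 2, 4, 1, 5, 5, 5, 5, 5, 5, 5] true) (.nil))) (.node (.node (.leaf [0, 0, 4, 1, 1, 5, 0, 2, 2, 1, 5, 5, 2, 2, 4] true) (.nil)) (.node (.leaf [0, 0, 5, 1, 3, 4, 4, 1, 1, 3, 4, 1, 4, 3, 1, 4] true) (.nil)))) (.node (.node (.node (.leaf [0, 2, 0, 3, 5, 0, 5, 5, 5, 5, 2, 1, 3,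 0, 4, 4] true) (.nil)) (.node (.leaf [0, 0, 5, 3, 5, 0, 2, 5, 5, 1, 2, 2, 1, 5, 1, 4] true) (.nil))) (.node (.node (.leaf [0, 0, 0, 4, 4, 4, 2, 0, 3, 4, 0, 3, 1, 5, 2, 4] true) (.nil)) (.node (.leaf [0, 0, 0, 0, 0, 0, 0, 0, 0, 0, 0] true) (.nil)))))))))

/-- the twists of the words -/
def evL : List (List ℕ) := [[0, 0, 0, 0, 0, 0, 0, 0, 0, 0, 0, 0, 0, 0, 0, 0, 0, 0, 0, 0, 0, 0, 0, 0, 0, 0, 0, 0, 0, 0, 0, 0, 0, 0, 0, 0, 0, 0, 0], [0, 0, 0, 0, 0, 0, 0, 0, 0, 0, 0, 0, 0, 0, 0, 0, 0, 0, 0, 0, 0, 0, 0, 0, 0, 0, 0, 0, 0, 0, 0, 0, 0, 0, 0, 0, 0, 0, 0], [0, 0, 0, 0, 0, 0, 0, 0, 0, 0, 0, 0, 0, 0, 0, 0, 0, 0, 0, 0, 0, 0, 0, 0, 0, 0, 0, 0, 0, 0, 0, 0, 0, 0, 0, 0, 0, 0, 0], [0, 0, 0, 0, 0, 0, 0, 0, 0, 0, 0, 0, 0, 0, 0,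 0, 0, 0, 0, 0, 0, 0, 0, 0, 0, 0, 0, 0, 0, 0, 0, 0, 0, 0, 0, 0, 0, 0, 0], [0, 0, 0, 0, 0, 0, 0, 0, 0, 0, 0, 0, 0, 0, 0, 0, 0, 0, 0, 0, 0, 0, 0, 0, 0, 0, 0, 0, 0, 0, 0, 0, 0, 0, 0, 0, 0, 0, 0], [0, 0, 0, 0, 0, 0, 0, 0, 0, 0, 0, 0, 0, 0, 0, 0, 0, 0, 0, 0, 0, 0, 0, 0, 0, 0, 0, 0, 0, 0, 0, 0, 0, 0, 0, 0, 0, 0, 0], [0, 0, 0, 0, 0, 0, 0, 0, 0, 0, 0, 0, 0, 0, 0, 0, 0, 0, 0, 0, 0, 0, 0, 0, 0, 0, 0, 0, 0, 0, 0, 0, 0, 0, 0, 0, 0, 0, 0], [0, 0, 0, 0, 0, 0, 0, 0, 0, 0, 0, 0, 0, 0, 0, 0, 0, 0, 0, 0, 0, 0, 0, 0, 0, 0, 0, 0, 0, 0, 0, 0, 0, 0, 0, 0, 0, 0, 0], [0, 0, 0, 0, 0, 0, 0, 0, 0, 0, 0, 0, 0, 0, 0, 0, 0, 0, 0, 0, 0, 0, 0, 0, 0, 0, 0, 0, 0, 0, 0, 0, 0, 0, 0, 0, 0, 0, 0], [0, 0, 0, 0, 0, 0, 0, 0, 0, 0, 0, 0, 0, 0, 0, 0,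 0, 0, 0, 0, 0, 0, 0, 0, 0, 0, 0, 0, 0, 0, 0, 0, 0, 0, 0, 0, 0, 0, 0], [0, 0, 0, 0, 0, 0, 0, 0, 0, 0, 0, 0, 0, 0, 0, 0, 0, 0, 0, 0, 0, 0, 0, 0, 0, 0, 0, 0, 0, 0, 0, 0, 0, 0, 0, 0, 0, 0, 0], [0, 0, 0, 0, 0, 0, 0, 0, 0, 0, 0, 0, 0, 0, 0, 0, 0, 0, 0, 0, 0, 0, 0, 0, 0, 0, 0, 0, 0, 0, 0, 0, 0, 0, 0, 0, 0, 0, 0], [1, 0, 0, 0, 0, 0, 0, 0, 0, 0, 0, 0, 0, 0, 0, 0, 0, 0, 0, 0, 0, 0, 0, 0, 0, 0, 0, 0, 0, 0, 0, 0, 0, 0, 0, 0, 0, 0, 0], [0, 1, 0, 0, 0, 0, 0, 0, 0, 0, 0, 0, 0, 0, 0, 0, 0, 0, 0, 0, 0, 0, 0, 0, 0, 0, 0, 0, 0, 0, 0, 0, 0, 0, 0, 0, 0, 0, 0], [0, 0, 1, 0, 0, 0, 0, 0, 0, 0, 0, 0, 0, 0, 0, 0, 0, 0, 0, 0, 0, 0, 0, 0, 0, 0, 0, 0, 0, 0, 0, 0, 0, 0, 0, 0, 0, 0, 0], [0, 0, 0, 1, 0, 0, 0, 0, 0, 0, 0, 0, 0, 0, 0, 0, 0,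 0, 0, 0, 0, 0, 0, 0, 0, 0, 0, 0, 0, 0, 0, 0, 0, 0, 0, 0, 0, 0, 0], [0, 0, 0, 0, 1, 0, 0, 0, 0, 0, 0, 0, 0, 0, 0, 0, 0, 0, 0, 0, 0, 0, 0, 0, 0, 0, 0, 0, 0, 0, 0, 0, 0, 0, 0, 0, 0, 0, 0], [0, 0, 0, 0, 0, 1, 0, 0, 0, 0, 0, 0, 0, 0, 0, 0, 0, 0, 0, 0, 0, 0, 0, 0, 0, 0, 0, 0, 0, 0, 0, 0, 0, 0, 0, 0, 0, 0, 0], [0, 0, 0, 0, 0, 0, 1, 0, 0, 0, 0, 0, 0, 0, 0, 0, 0, 0, 0, 0, 0, 0, 0, 0, 0, 0, 0, 0, 0, 0, 0, 0, 0, 0, 0, 0, 0, 0, 0], [0, 0, 0, 0, 0, 0, 0, 1, 0, 0, 0, 0, 0, 0, 0, 0, 0, 0, 0, 0, 0, 0, 0, 0, 0, 0, 0, 0, 0, 0, 0, 0, 0, 0, 0, 0, 0, 0, 0], [0, 0, 0, 0, 0, 0, 0, 0, 1, 0, 0, 0, 0, 0, 0, 0, 0, 0, 0, 0, 0, 0, 0, 0, 0, 0, 0, 0, 0, 0, 0, 0, 0, 0, 0, 0, 0, 0, 0], [0, 0, 0, 0, 0, 0, 0, 0, 0, 1, 0, 0, 0, 0, 0, 0, 0, 0,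 0, 0, 0, 0, 0, 0, 0, 0, 0, 0, 0, 0, 0, 0, 0, 0, 0, 0, 0, 0, 0], [0, 0, 0, 0, 0, 0, 0, 0, 0, 0, 1, 0, 0, 0, 0, 0, 0, 0, 0, 0, 0, 0, 0, 0, 0, 0, 0, 0, 0, 0, 0, 0, 0, 0, 0, 0, 0, 0, 0], [0, 0, 0, 0, 0, 0, 0, 0, 0, 0, 0, 1, 0, 0, 0, 0, 0, 0, 0, 0, 0, 0, 0, 0, 0, 0, 0, 0, 0, 0, 0, 0, 0, 0, 0, 0, 0, 0, 0], [0, 0, 0, 0, 0, 0, 0, 0, 0, 0, 0, 0, 1, 0, 0, 0, 0, 0, 0, 0, 0, 0, 0, 0, 0, 0, 0, 0, 0, 0, 0, 0, 0, 0, 0, 0, 0, 0, 0], [0, 0, 0, 0, 0, 0, 0, 0, 0, 0, 0, 0, 0, 1, 0, 0, 0, 0, 0, 0, 0, 0, 0, 0, 0, 0, 0, 0, 0, 0, 0, 0, 0, 0, 0, 0, 0, 0, 0], [0, 0, 0, 0, 0, 0, 0, 0, 0, 0, 0, 0, 0, 0, 1, 0, 0, 0, 0, 0, 0, 0, 0, 0, 0, 0, 0, 0, 0, 0, 0, 0, 0, 0, 0, 0, 0, 0, 0], [0, 0, 0, 0, 0, 0, 0, 0, 0, 0, 0, 0, 0, 0, 0, 1, 0, 0, 0,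 0, 0, 0, 0, 0, 0, 0, 0, 0, 0, 0, 0, 0, 0, 0, 0, 0, 0, 0, 0], [0, 0, 0, 0, 0, 0, 0, 0, 0, 0, 0, 0, 0, 0, 0, 0, 1, 0, 0, 0, 0, 0, 0, 0, 0, 0, 0, 0, 0, 0, 0, 0, 0, 0, 0, 0, 0, 0, 0], [0, 0, 0, 0, 0, 0, 0, 0, 0, 0, 0, 0, 0, 0, 0, 0, 0, 1, 0, 0, 0, 0, 0, 0, 0, 0, 0, 0, 0, 0, 0, 0, 0, 0, 0, 0, 0, 0, 0], [0, 0, 0, 0, 0, 0, 0, 0, 0, 0, 0, 0, 0, 0, 0, 0, 0, 0, 1, 0, 0, 0, 0, 0, 0, 0, 0, 0, 0, 0, 0, 0, 0, 0, 0, 0, 0, 0, 0], [0, 0, 0, 0, 0, 0, 0, 0, 0, 0, 0, 0, 0, 0, 0, 0, 0, 0, 0, 1, 0, 0, 0, 0, 0, 0, 0, 0, 0, 0, 0, 0, 0, 0, 0, 0, 0, 0, 0], [0, 0, 0, 0, 0, 0, 0, 0, 0, 0, 0, 0, 0, 0, 0, 0, 0, 0, 0, 0, 1, 0, 0, 0, 0, 0, 0, 0, 0, 0, 0, 0, 0, 0, 0, 0, 0, 0, 0], [0, 0, 0, 0, 0, 0, 0, 0, 0, 0, 0, 0, 0, 0, 0, 0, 0, 0, 0, 0,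 0, 1, 0, 0, 0, 0, 0, 0, 0, 0, 0, 0, 0, 0, 0, 0, 0, 0, 0], [0, 0, 0, 0, 0, 0, 0, 0, 0, 0, 0, 0, 0, 0, 0, 0, 0, 0, 0, 0, 0, 0, 1, 0, 0, 0, 0, 0, 0, 0, 0, 0, 0, 0, 0, 0, 0, 0, 0], [0, 0, 0, 0, 0, 0, 0, 0, 0, 0, 0, 0, 0, 0, 0, 0, 0, 0, 0, 0, 0, 0, 0, 1, 0, 0, 0, 0, 0, 0, 0, 0, 0, 0, 0, 0, 0, 0, 0], [0, 0, 0, 0, 0, 0, 0, 0, 0, 0, 0, 0, 0, 0, 0, 0, 0, 0, 0, 0, 0, 0, 0, 0, 1, 0, 0, 0, 0, 0, 0, 0, 0, 0, 0, 0, 0, 0, 0], [0, 0, 0, 0, 0, 0, 0, 0, 0, 0, 0, 0, 0, 0, 0, 0, 0, 0, 0, 0, 0, 0, 0, 0, 0, 1, 0, 0, 0, 0, 0, 0, 0, 0, 0, 0, 0, 0, 0], [0, 0, 0, 0, 0, 0, 0, 0, 0, 0, 0, 0, 0, 0, 0, 0, 0, 0, 0, 0, 0, 0, 0, 0, 0, 0, 1, 0, 0, 0, 0, 0, 0, 0, 0, 0, 0, 0, 0], [0, 0, 0, 0, 0, 0, 0, 0, 0, 0, 0, 0, 0, 0, 0, 0, 0, 0, 0, 0, 0,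 0, 0, 0, 0, 0, 0, 1, 0, 0, 0, 0, 0, 0, 0, 0, 0, 0, 0], [0, 0, 0, 0, 0, 0, 0, 0, 0, 0, 0, 0, 0, 0, 0, 0, 0, 0, 0, 0, 0, 0, 0, 0, 0, 0, 0, 0, 1, 0, 0, 0, 0, 0, 0, 0, 0, 0, 0], [0, 0, 0, 0, 0, 0, 0, 0, 0, 0, 0, 0, 0, 0, 0, 0, 0, 0, 0, 0, 0, 0, 0, 0, 0, 0, 0, 0, 0, 1, 0, 0, 0, 0, 0, 0, 0, 0, 0], [0, 0, 0, 0, 0, 0, 0, 0, 0, 0, 0, 0, 0, 0, 0, 0, 0, 0, 0, 0, 0, 0, 0, 0, 0, 0, 0, 0, 0, 0, 1, 0, 0, 0, 0, 0, 0, 0, 0], [0, 0, 0, 0, 0, 0, 0, 0, 0, 0, 0, 0, 0, 0, 0, 0, 0, 0, 0, 0, 0, 0, 0, 0, 0, 0, 0, 0, 0, 0, 0, 1, 0, 0, 0, 0, 0, 0, 0], [0, 0, 0, 0, 0, 0, 0, 0, 0, 0, 0, 0, 0, 0, 0, 0, 0, 0, 0, 0, 0, 0, 0, 0, 0, 0, 0, 0, 0, 0, 0, 0, 1, 0, 0, 0, 0, 0, 0], [0, 0, 0, 0, 0, 0, 0, 0, 0, 0, 0, 0, 0, 0, 0, 0, 0, 0, 0, 0, 0, 0,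 0, 0, 0, 0, 0, 0, 0, 0, 0, 0, 0, 1, 0, 0, 0, 0, 0], [0, 0, 0, 0, 0, 0, 0, 0, 0, 0, 0, 0, 0, 0, 0, 0, 0, 0, 0, 0, 0, 0, 0, 0, 0, 0, 0, 0, 0, 0, 0, 0, 0, 0, 1, 0, 0, 0, 0], [0, 0, 0, 0, 0, 0, 0, 0, 0, 0, 0, 0, 0, 0, 0, 0, 0, 0, 0, 0, 0, 0, 0, 0, 0, 0, 0, 0, 0, 0, 0, 0, 0, 0, 0, 1, 0, 0, 0], [0, 0, 0, 0, 0, 0, 0, 0, 0, 0, 0, 0, 0, 0, 0, 0, 0, 0, 0, 0, 0, 0, 0, 0, 0, 0, 0, 0, 0, 0, 0, 0, 0, 0, 0, 0, 1, 0, 0], [0, 0, 0, 0, 0, 0, 0, 0, 0, 0, 0, 0, 0, 0, 0, 0, 0, 0, 0, 0, 0, 0, 0, 0, 0, 0, 0, 0, 0, 0, 0, 0, 0, 0, 0, 0, 0, 1, 0], [0, 0, 0, 0, 0, 0, 0, 0, 0, 0, 0, 0, 0, 0, 0, 0, 0, 0, 0, 0, 0, 0, 0, 0, 0, 0, 0, 0, 0, 0, 0, 0, 0, 0, 0, 0, 0, 0, 1], [0, 0, 0, 0, 0, 0, 0, 0, 0, 0, 0, 0, 0, 0, 0, 0, 0, 0, 0, 0, 0, 0, 0,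 0, 0, 0, 0, 0, 0, 0, 0, 0, 0, 0, 0, 0, 0, 0, 0], [0, 0, 0, 0, 0, 0, 0, 0, 0, 0, 0, 0, 0, 0, 0, 0, 0, 0, 0, 0, 0, 0, 0, 0, 0, 0, 0, 0, 0, 0, 0, 0, 0, 0, 0, 0, 0, 0, 0], [0, 0, 0, 0, 0, 0, 0, 0, 0, 0, 0, 0, 0, 0, 0, 0, 0, 0, 0, 0, 0, 0, 0, 0, 0, 0, 0, 0, 0, 0, 0, 0, 0, 0, 0, 0, 0, 0, 0], [0, 0, 0, 0, 0, 0, 0, 0, 0, 0, 0, 0, 0, 0, 0, 0, 0, 0, 0, 0, 0, 0, 0, 0, 0, 0, 0, 0, 0, 0, 0, 0, 0, 0, 0, 0, 0, 0, 0], [0, 0, 0, 0, 0, 0, 0, 0, 0, 0, 0, 0, 0, 0, 0, 0, 0, 0, 0, 0, 0, 0, 0, 0, 0, 0, 0, 0, 0, 0, 0, 0, 0, 0, 0, 0, 0, 0, 0], [0, 0, 0, 0, 0, 0, 0, 0, 0, 0, 0, 0, 0, 0, 0, 0, 0, 0, 0, 0, 0, 0, 0, 0, 0, 0, 0, 0, 0, 0, 0, 0, 0, 0, 0, 0, 0, 0, 0], [0, 0, 0, 0, 0, 0, 0, 0, 0, 0, 0, 0, 0, 0, 0, 0, 0, 0, 0, 0, 0, 0, 0, 0,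 0, 0, 0, 0, 0, 0, 0, 0, 0, 0, 0, 0, 0, 0, 0], [0, 0, 0, 0, 0, 0, 0, 0, 0, 0, 0, 0, 0, 0, 0, 0, 0, 0, 0, 0, 0, 0, 0, 0, 0, 0, 0, 0, 0, 0, 0, 0, 0, 0, 0, 0, 0, 0, 0], [0, 0, 0, 0, 0, 0, 0, 0, 0, 0, 0, 0, 0, 0, 0, 0, 0, 0, 0, 0, 0, 0, 0, 0, 0, 0, 0, 0, 0, 0, 0, 0, 0, 0, 0, 0, 0, 0, 0], [0, 0, 0, 0, 0, 0, 0, 0, 0, 0, 0, 0, 0, 0, 0, 0, 0, 0, 0, 0, 0, 0, 0, 0, 0, 0, 0, 0, 0, 0, 0, 0, 0, 0, 0, 0, 0, 0, 0], [0, 0, 0, 0, 0, 0, 0, 0, 0, 0, 0, 0, 0, 0, 0, 0, 0, 0, 0, 0, 0, 0, 0, 0, 0, 0, 0, 0, 0, 0, 0, 0, 0, 0, 0, 0, 0, 0, 0], [0, 0, 0, 1, 0, 0, 0, 0, 0, 0, 0, 0, 0, 0, 0, 0, 0, 0, 0, 0, 0, 0, 0, 0, 0, 0, 0, 0, 0, 0, 0, 0, 0, 0, 0, 0, 0, 0, 0], [0, 0, 0, 23887871, 0, 0, 0, 0, 0, 0, 0, 0, 0, 0, 0, 0, 0, 0, 0, 0, 0, 0, 0,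 0, 0, 0, 0, 0, 0, 0, 0, 0, 0, 0, 0, 0, 0, 0, 0], [0, 0, 0, 23887871, 0, 0, 0, 0, 0, 0, 0, 0, 0, 0, 0, 0, 0, 0, 0, 0, 0, 0, 0, 0, 0, 0, 0, 0, 0, 0, 0, 0, 0, 0, 0, 0, 0, 0, 0], [0, 0, 0, 1, 0, 0, 0, 0, 0, 0, 0, 0, 0, 0, 0, 0, 0, 0, 0, 0, 0, 0, 0, 0, 0, 0, 0, 0, 0, 0, 0, 0, 0, 0, 0, 0, 0, 0, 0], [0, 0, 0, 0, 1, 0, 0, 0, 0, 0, 0, 0, 0, 0, 0, 0, 0, 0, 0, 0, 0, 0, 0, 0, 0, 0, 0, 0, 0, 0, 0, 0, 0, 0, 0, 0, 0, 0, 0], [0, 0, 0, 0, 1, 0, 0, 0, 0, 0, 0, 0, 0, 0, 0, 0, 0, 0, 0, 0, 0, 0, 0, 0, 0, 0, 0, 0, 0, 0, 0, 0, 0, 0, 0, 0, 0, 0, 0], [0, 0, 0, 0, 1, 0, 0, 0, 0, 0, 0, 0, 0, 0, 0, 0, 0, 0, 0, 0, 0, 0, 0, 0, 0, 0, 0, 0, 0, 0, 0, 0, 0, 0, 0, 0, 0, 0, 0], [0, 0, 0, 0, 1, 0, 0, 0, 0, 0, 0, 0, 0, 0, 0, 0, 0, 0, 0, 0, 0, 0,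 0, 0, 0, 0, 0, 0, 0, 0, 0, 0, 0, 0, 0, 0, 0, 0, 0], [0, 1, 0, 1, 1, 0, 0, 0, 0, 0, 0, 0, 0, 0, 0, 0, 0, 0, 0, 0, 0, 0, 0, 0, 0, 0, 0, 0, 0, 0, 0, 0, 0, 0, 0, 0, 0, 0, 0], [0, 0, 0, 1, 1, 0, 0, 0, 0, 0, 0, 0, 0, 0, 0, 0, 0, 0, 0, 0, 0, 0, 0, 0, 0, 0, 0, 0, 0, 0, 0, 0, 0, 0, 0, 0, 0, 0, 0], [0, 23887871, 0, 23887871, 0, 0, 0, 0, 0, 0, 0, 0, 0, 0, 0, 0, 0, 0, 0, 0, 0, 0, 0, 0, 0, 0, 0, 0, 0, 0, 0, 0, 0, 0, 0, 0, 0, 0, 0], [0, 0, 0, 0, 0, 0, 0, 0, 0, 0, 0, 0, 0, 0, 0, 0, 0, 0, 0, 0, 0, 0, 0, 0, 0, 0, 0, 0, 0, 0, 0, 0, 0, 0, 0, 0, 0, 0, 0], [0, 0, 0, 0, 0, 23887871, 0, 0, 0, 0, 0, 0, 0, 0, 0, 0, 0, 0, 0, 0, 0, 0, 0, 0, 0, 0, 0, 0, 0, 0, 0, 0, 0, 0, 0, 0, 0, 0, 0], [0, 0, 0, 0, 0, 1, 0, 0, 0, 0, 0, 0, 0, 0, 0, 0,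 0, 0, 0, 0, 0, 0, 0, 0, 0, 0, 0, 0, 0, 0, 0, 0, 0, 0, 0, 0, 0, 0, 0], [0, 0, 0, 0, 0, 1, 0, 0, 0, 0, 0, 0, 0, 0, 0, 0, 0, 0, 0, 0, 0, 0, 0, 0, 0, 0, 0, 0, 0, 0, 0, 0, 0, 0, 0, 0, 0, 0, 0], [0, 0, 0, 0, 0, 23887871, 0, 0, 0, 0, 0, 0, 0, 0, 0, 0, 0, 0, 0, 0, 0, 0, 0, 0, 0, 0, 0, 0, 0, 0, 0, 0, 0, 0, 0, 0, 0, 0, 0], [0, 0, 0, 0, 0, 1, 0, 0, 0, 0, 0, 0, 0, 0, 0, 0, 0, 0, 0, 0, 0, 0, 0, 0, 0, 0, 0, 0, 0, 0, 0, 0, 0, 0, 0, 0, 0, 0, 0], [0, 0, 0, 0, 0, 23887871, 0, 0, 0, 0, 0, 0, 0, 0, 0, 0, 0, 0, 0, 0, 0, 0, 0, 0, 0, 0, 0, 0, 0, 0, 0, 0, 0, 0, 0, 0, 0, 0, 0], [0, 0, 0, 1, 0, 0, 0, 0, 0, 0, 0, 0, 0, 0, 0, 0, 0, 0, 0, 0, 0, 0, 0, 0, 0, 0, 0, 0, 0, 0, 0, 0, 0, 0, 0, 0, 0, 0, 0], [0, 0, 0, 0, 0, 0, 1, 0, 0, 0, 0, 0, 0,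 0, 0, 0, 0, 0, 0, 0, 0, 0, 0, 0, 0, 0, 0, 0, 0, 0, 0, 0, 0, 0, 0, 0, 0, 0, 0], [0, 0, 0, 0, 0, 0, 23887871, 0, 0, 0, 0, 0, 0, 0, 0, 0, 0, 0, 0, 0, 0, 0, 0, 0, 0, 0, 0, 0, 0, 0, 0, 0, 0, 0, 0, 0, 0, 0, 0], [23887871, 0, 0, 0, 0, 0, 1, 0, 0, 0, 0, 0, 0, 0, 0, 0, 0, 0, 0, 0, 0, 0, 0, 0, 0, 0, 0, 0, 0, 0, 0, 0, 0, 0, 0, 0, 0, 0, 0], [1, 0, 0, 0, 0, 0, 23887871, 0, 0, 0, 0, 0, 0, 0, 0, 0, 0, 0, 0, 0, 0, 0, 0, 0, 0, 0, 0, 0, 0, 0, 0, 0, 0, 0, 0, 0, 0, 0, 0], [0, 0, 0, 0, 0, 0, 23887871, 0, 0, 0, 0, 0, 0, 0, 0, 0, 0, 0, 0, 0, 0, 0, 0, 0, 0, 0, 0, 0, 0, 0, 0, 0, 0, 0, 0, 0, 0, 0, 0], [0, 0, 0, 0, 0, 0, 0, 1, 0, 0, 0, 0, 0, 0, 0, 0, 0, 0, 0, 0, 0, 0, 0, 0, 0, 0, 0, 0, 0, 0, 0, 0, 0, 0, 0, 0, 0, 0, 0], [0, 0, 0, 0, 0,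 0, 0, 1, 0, 0, 0, 0, 0, 0, 0, 0, 0, 0, 0, 0, 0, 0, 0, 0, 0, 0, 0, 0, 0, 0, 0, 0, 0, 0, 0, 0, 0, 0, 0], [0, 0, 0, 0, 0, 0, 0, 0, 23887871, 0, 0, 0, 0, 0, 0, 0, 0, 0, 0, 0, 0, 0, 0, 0, 0, 0, 0, 0, 0, 0, 0, 0, 0, 0, 0, 0, 0, 0, 0], [0, 0, 0, 0, 0, 0, 0, 0, 1, 0, 0, 0, 0, 0, 0, 0, 0, 0, 0, 0, 0, 0, 0, 0, 0, 0, 0, 0, 0, 0, 0, 0, 0, 0, 0, 0, 0, 0, 0], [23887871, 0, 0, 0, 0, 0, 0, 0, 0, 1, 0, 0, 0, 0, 0, 0, 0, 0, 0, 0, 0, 0, 0, 0, 0, 0, 0, 0, 0, 0, 0, 0, 0, 0, 0, 0, 0, 0, 0], [23887871, 0, 0, 0, 0, 0, 0, 0, 0, 1, 0, 0, 0, 0, 0, 0, 0, 0, 0, 0, 0, 0, 0, 0, 0, 0, 0, 0, 0, 0, 0, 0, 0, 0, 0, 0, 0, 0, 0], [23887871, 0, 0, 0, 0, 0, 0, 0, 0, 1, 0, 0, 0, 0, 0, 0, 0, 0, 0, 0, 0, 0, 0, 0, 0, 0, 0, 0, 0, 0, 0, 0, 0, 0, 0, 0, 0,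 0, 0], [0, 0, 0, 0, 0, 0, 0, 0, 0, 1, 0, 0, 0, 0, 0, 0, 0, 0, 0, 0, 0, 0, 0, 0, 0, 0, 0, 0, 0, 0, 0, 0, 0, 0, 0, 0, 0, 0, 0], [0, 0, 0, 0, 0, 0, 0, 23887871, 0, 0, 1, 0, 0, 0, 0, 0, 0, 0, 0, 0, 0, 0, 0, 0, 0, 0, 0, 0, 0, 0, 0, 0, 0, 0, 0, 0, 0, 0, 0], [0, 0, 0, 0, 0, 0, 0, 0, 0, 0, 1, 0, 0, 0, 0, 0, 0, 0, 0, 0, 0, 0, 0, 0, 0, 0, 0, 0, 0, 0, 0, 0, 0, 0, 0, 0, 0, 0, 0], [0, 0, 0, 0, 0, 0, 0, 0, 0, 0, 23887871, 0, 0, 0, 0, 0, 0, 0, 0, 0, 0, 0, 0, 0, 0, 0, 0, 0, 0, 0, 0, 0, 0, 0, 0, 0, 0, 0, 0], [0, 0, 0, 0, 0, 0, 0, 23887871, 0, 0, 0, 0, 0, 0, 0, 0, 0, 0, 0, 0, 0, 0, 0, 0, 0, 0, 0, 0, 0, 0, 0, 0, 0, 0, 0, 0, 0, 0, 0], [0, 0, 0, 0, 0, 0, 0, 0, 0, 0, 23887871, 0, 0, 0, 0, 0, 0, 0, 0, 0, 0, 0, 0, 0, 0, 0, 0, 0, 0,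 0, 0, 0, 0, 0, 0, 0, 0, 0, 0], [0, 0, 0, 0, 0, 0, 0, 0, 0, 0, 1, 0, 0, 0, 0, 0, 0, 0, 0, 0, 0, 0, 0, 0, 0, 0, 0, 0, 0, 0, 0, 0, 0, 0, 0, 0, 0, 0, 0], [0, 0, 0, 0, 0, 0, 0, 0, 0, 0, 0, 1, 0, 0, 0, 0, 0, 0, 0, 0, 0, 0, 0, 0, 0, 0, 0, 0, 0, 0, 0, 0, 0, 0, 0, 0, 0, 0, 0], [0, 0, 0, 0, 0, 0, 0, 0, 0, 0, 0, 23887871, 0, 0, 0, 0, 0, 0, 0, 0, 0, 0, 0, 0, 0, 0, 0, 0, 0, 0, 0, 0, 0, 0, 0, 0, 0, 0, 0], [0, 0, 0, 0, 0, 0, 0, 0, 0, 0, 0, 23887871, 0, 0, 0, 0, 0, 0, 0, 0, 0, 0, 0, 0, 0, 0, 0, 0, 0, 0, 0, 0, 0, 0, 0, 0, 0, 0, 0], [0, 0, 0, 0, 0, 0, 0, 0, 0, 0, 0, 1, 0, 0, 0, 0, 0, 0, 0, 0, 0, 0, 0, 0, 0, 0, 0, 0, 0, 0, 0, 0, 0, 0, 0, 0, 0, 0, 0], [0, 0, 0, 0, 0, 0, 0, 0, 0, 0, 0, 0, 23887871, 0, 0, 0, 0, 0, 0, 0, 0, 0, 0,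 0, 0, 0, 0, 0, 0, 0, 0, 0, 0, 0, 0, 0, 0, 0, 0], [0, 0, 0, 0, 0, 0, 0, 0, 0, 0, 0, 0, 23887871, 0, 0, 0, 0, 0, 0, 0, 0, 0, 0, 0, 0, 0, 0, 0, 0, 0, 0, 0, 0, 0, 0, 0, 0, 0, 0], [0, 0, 0, 0, 0, 0, 0, 0, 0, 0, 0, 0, 23887871, 0, 0, 0, 0, 0, 0, 0, 0, 0, 0, 0, 0, 0, 0, 0, 0, 0, 0, 0, 0, 0, 0, 0, 0, 0, 0], [0, 0, 0, 0, 0, 0, 0, 0, 0, 0, 0, 0, 23887871, 0, 0, 0, 0, 0, 0, 0, 0, 0, 0, 0, 0, 0, 0, 0, 0, 0, 0, 0, 0, 0, 0, 0, 0, 0, 0], [0, 0, 0, 0, 23887871, 0, 0, 0, 0, 0, 0, 0, 0, 23887871, 0, 0, 0, 0, 0, 0, 0, 0, 0, 0, 0, 0, 0, 0, 0, 0, 0, 0, 0, 0, 0, 0, 0, 0, 0], [0, 0, 0, 0, 0, 0, 0, 0, 0, 0, 0, 0, 0, 23887871, 0, 0, 0, 0, 0, 0, 0, 0, 0, 0, 0, 0, 0, 0, 0, 0, 0, 0, 0, 0, 0, 0, 0, 0, 0], [0, 0, 0, 0, 0, 0, 0, 0, 0, 0,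 0, 0, 0, 1, 0, 0, 0, 0, 0, 0, 0, 0, 0, 0, 0, 0, 0, 0, 0, 0, 0, 0, 0, 0, 0, 0, 0, 0, 0], [0, 0, 0, 0, 0, 0, 0, 0, 0, 0, 0, 0, 0, 1, 0, 0, 0, 0, 0, 0, 0, 0, 0, 0, 0, 0, 0, 0, 0, 0, 0, 0, 0, 0, 0, 0, 0, 0, 0], [0, 0, 0, 0, 0, 0, 0, 0, 0, 0, 0, 0, 0, 23887871, 0, 0, 0, 0, 0, 0, 0, 0, 0, 0, 0, 0, 0, 0, 0, 0, 0, 0, 0, 0, 0, 0, 0, 0, 0], [0, 0, 0, 0, 0, 0, 0, 0, 0, 0, 0, 0, 0, 0, 23887871, 0, 0, 0, 0, 0, 0, 0, 0, 0, 0, 0, 0, 0, 0, 0, 0, 0, 0, 0, 0, 0, 0, 0, 0], [0, 0, 0, 0, 0, 0, 0, 0, 0, 0, 0, 23887871, 0, 0, 23887871, 0, 0, 0, 0, 0, 0, 0, 0, 0, 0, 0, 0, 0, 0, 0, 0, 0, 0, 0, 0, 0, 0, 0, 0], [0, 0, 0, 0, 0, 0, 0, 0, 0, 0, 0, 0, 0, 0, 23887871, 0, 0, 0, 0, 0, 0, 0, 0, 0, 0, 0, 0, 0, 0, 0, 0, 0, 0, 0, 0, 0, 0, 0, 0],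 [0, 0, 0, 0, 0, 0, 0, 0, 0, 0, 0, 0, 0, 0, 1, 0, 0, 0, 0, 0, 0, 0, 0, 0, 0, 0, 0, 0, 0, 0, 0, 0, 0, 0, 0, 0, 0, 0, 0], [0, 0, 0, 0, 0, 0, 0, 0, 0, 0, 0, 0, 0, 0, 23887871, 0, 0, 0, 0, 0, 0, 0, 0, 0, 0, 0, 0, 0, 0, 0, 0, 0, 0, 0, 0, 0, 0, 0, 0], [0, 0, 0, 1, 0, 0, 0, 0, 2, 0, 0, 0, 0, 0, 0, 1, 0, 0, 0, 0, 0, 0, 0, 0, 0, 0, 0, 0, 0, 0, 0, 0, 0, 0, 0, 0, 0, 0, 0], [0, 0, 0, 0, 0, 0, 0, 0, 0, 0, 0, 0, 0, 23887871, 0, 1, 0, 0, 0, 0, 0, 0, 0, 0, 0, 0, 0, 0, 0, 0, 0, 0, 0, 0, 0, 0, 0, 0, 0], [0, 0, 0, 0, 1, 0, 0, 0, 0, 0, 0, 0, 0, 0, 0, 1, 0, 0, 0, 0, 0, 0, 0, 0, 0, 0, 0, 0, 0, 0, 0, 0, 0, 0, 0, 0, 0, 0, 0], [0, 0, 0, 0, 1, 0, 0, 0, 0, 0, 0, 0, 0, 0, 0, 1, 0, 0, 0, 0, 0, 0, 0, 0, 0, 0, 0, 0, 0, 0, 0, 0, 0, 0, 0, 0,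 0, 0, 0], [0, 0, 0, 0, 0, 0, 0, 0, 0, 0, 0, 0, 0, 0, 23887871, 0, 0, 0, 0, 0, 0, 0, 0, 0, 0, 0, 0, 0, 0, 0, 0, 0, 0, 0, 0, 0, 0, 0, 0], [0, 0, 0, 0, 0, 0, 0, 0, 0, 0, 0, 0, 0, 0, 0, 1, 0, 0, 0, 0, 0, 0, 0, 0, 0, 0, 0, 0, 0, 0, 0, 0, 0, 0, 0, 0, 0, 0, 0], [0, 0, 0, 0, 0, 0, 0, 0, 0, 0, 0, 0, 0, 0, 0, 1, 0, 0, 0, 0, 0, 0, 0, 0, 0, 0, 0, 0, 0, 0, 0, 0, 0, 0, 0, 0, 0, 0, 0], [0, 0, 0, 0, 0, 0, 0, 0, 0, 0, 0, 0, 0, 0, 0, 23887871, 0, 0, 0, 0, 0, 0, 0, 0, 0, 0, 0, 0, 0, 0, 0, 0, 0, 0, 0, 0, 0, 0, 0], [0, 0, 0, 0, 0, 0, 0, 0, 0, 0, 1, 0, 0, 0, 0, 0, 0, 0, 0, 0, 0, 0, 0, 0, 0, 0, 0, 0, 0, 0, 0, 0, 0, 0, 0, 0, 0, 0, 0], [0, 0, 0, 0, 1, 0, 0, 0, 0, 0, 0, 0, 0, 0, 0, 0, 1, 0, 0, 0, 0, 0, 0, 0, 0, 0, 0, 0, 0, 0, 0, 0, 0,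 0, 0, 0, 0, 0, 0], [0, 0, 0, 0, 1, 0, 0, 0, 0, 0, 0, 0, 0, 0, 0, 0, 1, 0, 0, 0, 0, 0, 0, 0, 0, 0, 0, 0, 0, 0, 0, 0, 0, 0, 0, 0, 0, 0, 0], [0, 0, 0, 0, 1, 0, 0, 0, 0, 0, 0, 0, 0, 0, 0, 0, 1, 0, 0, 0, 0, 0, 0, 0, 0, 0, 0, 0, 0, 0, 0, 0, 0, 0, 0, 0, 0, 0, 0], [0, 0, 0, 0, 1, 0, 0, 0, 0, 0, 0, 0, 0, 0, 0, 0, 1, 0, 0, 0, 0, 0, 0, 0, 0, 0, 0, 0, 0, 0, 0, 0, 0, 0, 0, 0, 0, 0, 0], [0, 0, 0, 0, 0, 0, 0, 0, 0, 0, 0, 0, 0, 0, 0, 0, 0, 23887871, 0, 0, 0, 0, 0, 0, 0, 0, 0, 0, 0, 0, 0, 0, 0, 0, 0, 0, 0, 0, 0], [0, 0, 0, 0, 0, 0, 0, 0, 0, 0, 0, 0, 0, 0, 0, 0, 0, 1, 0, 0, 0, 0, 0, 0, 0, 0, 0, 0, 0, 0, 0, 0, 0, 0, 0, 0, 0, 0, 0], [0, 0, 0, 0, 0, 0, 0, 0, 0, 0, 0, 0, 0, 0, 0, 0, 0, 1, 0, 0, 0, 0, 0, 0, 0, 0, 0, 0, 0, 0, 0, 0,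 0, 0, 0, 0, 0, 0, 0], [0, 0, 0, 23887871, 0, 1, 0, 0, 2, 0, 2, 0, 0, 0, 0, 0, 0, 0, 23887871, 0, 0, 0, 0, 0, 0, 0, 0, 0, 0, 0, 0, 0, 0, 0, 0, 0, 0, 0, 0], [0, 0, 0, 0, 0, 0, 0, 0, 0, 0, 23887871, 0, 0, 0, 0, 0, 0, 0, 1, 0, 0, 0, 0, 0, 0, 0, 0, 0, 0, 0, 0, 0, 0, 0, 0, 0, 0, 0, 0], [0, 0, 0, 0, 0, 0, 0, 0, 0, 0, 1, 0, 0, 0, 0, 0, 0, 0, 23887871, 0, 0, 0, 0, 0, 0, 0, 0, 0, 0, 0, 0, 0, 0, 0, 0, 0, 0, 0, 0], [0, 1, 0, 23887871, 0, 1, 0, 0, 2, 0, 1, 0, 0, 23887871, 0, 1, 0, 0, 23887871, 0, 0, 0, 0, 0, 0, 0, 0, 0, 0, 0, 0, 0, 0, 0, 0, 0, 0, 0, 0], [0, 0, 0, 23887871, 0, 0, 0, 0, 0, 0, 0, 0, 0, 0, 0, 0, 0, 0, 0, 0, 0, 0, 0, 0, 0, 0, 0, 0, 0, 0, 0, 0, 0, 0, 0, 0, 0, 0, 0], [0, 0, 0, 23887871, 0, 0, 0, 0, 0, 0, 0, 0,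 0, 0, 0, 0, 0, 0, 0, 0, 0, 0, 0, 0, 0, 0, 0, 0, 0, 0, 0, 0, 0, 0, 0, 0, 0, 0, 0], [0, 0, 0, 0, 0, 0, 0, 0, 0, 0, 0, 1, 0, 0, 0, 0, 0, 0, 0, 1, 0, 0, 0, 0, 0, 0, 0, 0, 0, 0, 0, 0, 0, 0, 0, 0, 0, 0, 0], [0, 0, 0, 0, 0, 0, 0, 0, 0, 0, 0, 0, 0, 0, 0, 0, 0, 0, 0, 1, 0, 0, 0, 0, 0, 0, 0, 0, 0, 0, 0, 0, 0, 0, 0, 0, 0, 0, 0], [0, 0, 0, 0, 23887871, 0, 0, 0, 0, 0, 0, 0, 0, 0, 0, 0, 0, 0, 0, 0, 1, 0, 0, 0, 0, 0, 0, 0, 0, 0, 0, 0, 0, 0, 0, 0, 0, 0, 0], [0, 0, 0, 0, 0, 0, 0, 0, 0, 0, 0, 0, 0, 0, 0, 0, 0, 0, 0, 0, 1, 0, 0, 0, 0, 0, 0, 0, 0, 0, 0, 0, 0, 0, 0, 0, 0, 0, 0], [0, 0, 0, 0, 0, 0, 0, 0, 0, 0, 0, 0, 0, 0, 0, 0, 0, 0, 0, 0, 0, 0, 0, 1, 0, 0, 0, 0, 0, 0, 0, 0, 0, 0, 0, 0, 0, 0, 0], [0, 0, 0, 0, 1, 0, 1, 0, 1, 23887871,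 2, 0, 1, 1, 0, 1, 0, 0, 0, 0, 0, 0, 0, 0, 1, 0, 0, 0, 0, 0, 0, 0, 0, 0, 0, 0, 0, 0, 0], [0, 0, 0, 0, 1, 0, 1, 0, 1, 23887871, 2, 0, 1, 1, 0, 1, 0, 0, 0, 0, 0, 0, 0, 0, 1, 0, 0, 0, 0, 0, 0, 0, 0, 0, 0, 0, 0, 0, 0], [0, 0, 0, 0, 1, 0, 1, 0, 1, 23887871, 2, 0, 1, 1, 0, 1, 0, 0, 0, 0, 0, 0, 0, 0, 1, 0, 0, 0, 0, 0, 0, 0, 0, 0, 0, 0, 0, 0, 0], [0, 0, 0, 0, 0, 0, 0, 0, 0, 0, 23887871, 0, 0, 0, 0, 0, 0, 0, 0, 0, 0, 0, 0, 0, 0, 0, 0, 0, 0, 0, 0, 0, 0, 0, 0, 0, 0, 0, 0], [1, 0, 0, 0, 0, 0, 2, 0, 1, 23887870, 2, 0, 1, 1, 0, 1, 0, 0, 0, 0, 0, 0, 0, 0, 1, 0, 0, 0, 0, 0, 0, 0, 0, 0, 0, 0, 0, 0, 0], [23887871, 0, 0, 0, 0, 0, 23887870, 0, 23887871, 2, 23887870, 0, 23887871, 23887871, 0, 23887871, 0, 0, 0, 0, 0, 0, 0, 0, 23887871,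 0, 0, 0, 0, 0, 0, 0, 0, 0, 0, 0, 0, 0, 0], [1, 0, 0, 0, 0, 0, 2, 0, 1, 23887870, 2, 0, 1, 1, 0, 1, 0, 0, 0, 0, 0, 0, 0, 0, 1, 0, 0, 0, 0, 0, 0, 0, 0, 0, 0, 0, 0, 0, 0], [0, 0, 0, 0, 0, 0, 23887870, 0, 23887871, 2, 23887870, 0, 23887871, 23887871, 0, 23887871, 0, 0, 0, 0, 0, 0, 0, 0, 23887871, 0, 0, 0, 0, 0, 0, 0, 0, 0, 0, 0, 0, 0, 0], [23887871, 0, 0, 0, 0, 0, 23887870, 0, 0, 2, 23887871, 0, 23887871, 23887870, 0, 23887871, 0, 0, 0, 0, 0, 0, 0, 1, 23887871, 0, 0, 0, 0, 0, 0, 0, 0, 0, 0, 0, 0, 0, 0], [1, 0, 0, 23887871, 0, 1, 2, 0, 2, 23887870, 2, 0, 1, 0, 0, 1, 0, 0, 0, 0, 0, 0, 0, 23887871, 0, 0, 0, 0, 0, 0, 0, 0, 0, 0, 0, 0, 0, 0, 0], [23887871, 1, 0, 0, 0, 0, 23887870, 0, 0, 2, 23887871, 0, 23887871, 23887870,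 0, 23887871, 0, 0, 0, 0, 0, 0, 0, 1, 23887871, 0, 0, 0, 0, 0, 0, 0, 0, 0, 0, 0, 0, 0, 0], [23887871, 0, 0, 0, 0, 0, 23887870, 0, 23887871, 2, 23887871, 0, 23887871, 23887871, 0, 23887871, 0, 0, 23887871, 0, 0, 0, 0, 1, 23887871, 0, 0, 0, 0, 0, 0, 0, 0, 0, 0, 0, 0, 0, 0], [1, 0, 0, 23887871, 0, 1, 2, 0, 2, 23887870, 2, 0, 1, 0, 0, 1, 0, 0, 0, 0, 0, 0, 0, 0, 0, 0, 0, 0, 0, 0, 0, 0, 0, 0, 0, 0, 0, 0, 0], [0, 0, 0, 0, 0, 0, 0, 0, 0, 23887871, 0, 0, 0, 0, 0, 0, 0, 0, 0, 0, 0, 0, 0, 0, 0, 0, 0, 0, 0, 0, 0, 0, 0, 0, 0, 0, 0, 0, 0], [0, 0, 0, 0, 0, 1, 0, 0, 0, 0, 0, 0, 0, 0, 0, 0, 0, 0, 0, 0, 0, 0, 0, 0, 0, 0, 0, 0, 0, 0, 0, 0, 0, 0, 0, 0, 0, 0, 0], [0, 0, 0, 0, 0, 0, 0, 0, 0, 0, 0, 23887871, 0, 0, 0, 0, 0, 0, 0, 0,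 0, 0, 0, 0, 0, 0, 0, 0, 0, 0, 0, 0, 0, 0, 0, 0, 0, 0, 0], [0, 0, 0, 0, 0, 0, 0, 0, 0, 1, 0, 23887871, 23887871, 0, 0, 0, 0, 0, 0, 0, 0, 0, 0, 0, 0, 23887871, 0, 0, 0, 0, 0, 0, 0, 0, 0, 0, 0, 0, 0], [0, 0, 0, 0, 0, 1, 0, 0, 0, 0, 0, 0, 0, 0, 0, 0, 0, 0, 0, 0, 0, 0, 0, 0, 0, 0, 0, 0, 0, 0, 0, 0, 0, 0, 0, 0, 0, 0, 0], [0, 0, 0, 1, 0, 0, 0, 0, 0, 0, 0, 0, 0, 0, 0, 0, 0, 0, 0, 0, 0, 0, 0, 0, 0, 0, 0, 0, 0, 0, 0, 0, 0, 0, 0, 0, 0, 0, 0], [0, 0, 0, 0, 0, 1, 0, 0, 0, 0, 0, 0, 0, 0, 0, 0, 0, 0, 0, 0, 0, 0, 0, 0, 0, 0, 0, 0, 0, 0, 0, 0, 0, 0, 0, 0, 0, 0, 0], [0, 0, 0, 0, 0, 0, 0, 0, 0, 0, 0, 0, 0, 0, 0, 0, 0, 23887871, 0, 0, 0, 0, 0, 0, 0, 0, 0, 0, 0, 0, 0, 0, 0, 0, 0, 0, 0, 0, 0], [0, 0, 0, 0, 1, 0, 0, 0, 0, 0, 0, 0,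 0, 0, 0, 1, 0, 0, 0, 0, 0, 0, 0, 0, 0, 0, 23887871, 0, 0, 0, 0, 0, 0, 0, 0, 0, 0, 0, 0], [0, 0, 0, 0, 23887871, 0, 0, 0, 0, 0, 0, 0, 0, 0, 0, 0, 0, 0, 0, 0, 0, 0, 0, 0, 0, 0, 1, 0, 0, 0, 0, 0, 0, 0, 0, 0, 0, 0, 0], [0, 0, 0, 0, 0, 0, 0, 0, 0, 0, 0, 23887871, 0, 0, 0, 0, 0, 0, 0, 0, 0, 0, 0, 0, 0, 0, 0, 0, 0, 0, 0, 0, 0, 0, 0, 0, 0, 0, 0], [1, 0, 1, 0, 0, 0, 0, 0, 0, 0, 0, 0, 0, 0, 0, 0, 0, 0, 0, 0, 0, 0, 0, 0, 0, 0, 0, 0, 0, 0, 0, 0, 0, 0, 0, 0, 0, 0, 0], [23887871, 0, 0, 0, 0, 0, 0, 0, 0, 0, 0, 0, 0, 0, 0, 0, 0, 0, 0, 0, 0, 0, 0, 0, 0, 0, 0, 0, 0, 0, 0, 0, 0, 0, 0, 0, 0, 0, 0], [1, 0, 0, 0, 0, 0, 0, 0, 0, 0, 0, 0, 0, 0, 0, 0, 0, 0, 0, 0, 0, 0, 0, 0, 0, 0, 0, 0, 0, 0, 0, 0, 0, 0, 0, 0, 0, 0, 0], [0, 0, 0, 0,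 0, 0, 0, 0, 0, 0, 0, 0, 0, 0, 0, 0, 0, 0, 0, 0, 0, 0, 0, 0, 0, 0, 0, 0, 0, 0, 0, 0, 0, 0, 0, 0, 0, 0, 0], [0, 0, 0, 0, 0, 0, 0, 0, 0, 0, 0, 0, 0, 0, 0, 0, 0, 0, 0, 0, 0, 0, 0, 0, 0, 0, 0, 0, 0, 0, 0, 0, 0, 0, 0, 0, 0, 0, 0], [1, 0, 0, 0, 0, 0, 0, 0, 0, 0, 0, 0, 0, 0, 0, 0, 0, 0, 0, 0, 0, 0, 0, 0, 0, 0, 0, 1, 0, 0, 0, 0, 0, 0, 0, 0, 0, 0, 0], [23887871, 0, 0, 0, 0, 0, 0, 0, 0, 0, 0, 0, 0, 0, 0, 0, 0, 0, 0, 0, 0, 0, 0, 0, 0, 0, 0, 23887871, 0, 0, 0, 0, 0, 0, 0, 0, 0, 0, 0], [0, 23887871, 0, 0, 0, 0, 0, 0, 0, 0, 0, 0, 0, 0, 0, 0, 0, 0, 0, 0, 0, 0, 0, 0, 0, 0, 0, 0, 0, 1, 0, 0, 0, 0, 0, 0, 0, 0, 0], [0, 0, 0, 0, 0, 0, 0, 0, 0, 0, 23887871, 0, 0, 0, 0, 0, 0, 0, 1, 0, 0, 0, 0, 0, 0, 0, 0, 0, 0, 0, 0, 0, 0, 0, 0, 0,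 0, 0, 0], [23887871, 0, 0, 0, 0, 0, 0, 0, 0, 1, 0, 0, 0, 0, 0, 0, 0, 0, 0, 0, 0, 0, 0, 0, 0, 0, 0, 0, 0, 0, 1, 0, 0, 0, 0, 0, 0, 0, 0], [23887870, 0, 0, 0, 0, 0, 0, 0, 0, 1, 0, 0, 0, 0, 0, 0, 0, 0, 0, 0, 0, 0, 0, 0, 0, 0, 0, 0, 0, 0, 1, 0, 0, 0, 0, 0, 0, 0, 0], [0, 0, 0, 0, 0, 0, 0, 0, 0, 0, 0, 0, 0, 0, 0, 0, 0, 0, 0, 0, 0, 0, 0, 0, 0, 0, 0, 0, 0, 1, 0, 0, 0, 0, 0, 0, 0, 0, 0], [0, 0, 0, 0, 0, 0, 0, 0, 0, 0, 0, 0, 0, 0, 0, 0, 0, 0, 0, 0, 0, 0, 0, 0, 0, 0, 0, 0, 0, 23887871, 0, 0, 0, 0, 0, 0, 0, 0, 0], [0, 0, 0, 0, 0, 0, 0, 0, 0, 0, 0, 0, 0, 0, 0, 0, 0, 0, 0, 0, 0, 0, 0, 0, 0, 0, 0, 0, 0, 0, 0, 23887871, 0, 0, 0, 0, 0, 0, 0], [0, 23887871, 0, 0, 0, 23887871, 0, 0, 0, 0, 0, 0, 0, 0, 0, 0, 0, 0, 0, 0, 0, 0, 0,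 0, 0, 0, 0, 0, 0, 0, 0, 0, 0, 0, 0, 0, 0, 0, 0], [0, 0, 0, 0, 0, 0, 0, 0, 0, 0, 0, 0, 0, 0, 23887871, 0, 0, 0, 0, 0, 0, 0, 0, 0, 0, 0, 0, 0, 0, 0, 0, 0, 0, 0, 0, 0, 0, 0, 0], [0, 0, 0, 0, 1, 0, 0, 0, 0, 0, 0, 0, 0, 0, 0, 1, 0, 0, 0, 0, 0, 0, 0, 0, 0, 0, 0, 0, 0, 0, 0, 0, 0, 0, 0, 0, 0, 0, 0], [23887871, 23887870, 0, 1, 23887871, 23887869, 1, 0, 23887870, 0, 23887871, 0, 0, 1, 0, 23887870, 0, 0, 0, 0, 23887871, 0, 0, 0, 0, 0, 1, 0, 0, 0, 0, 1, 0, 0, 0, 0, 0, 0, 0], [0, 0, 0, 0, 0, 0, 0, 0, 0, 0, 0, 0, 23887871, 0, 0, 0, 0, 0, 0, 0, 0, 0, 0, 0, 0, 0, 0, 0, 0, 0, 0, 0, 0, 0, 0, 0, 0, 0, 0], [1, 0, 0, 1, 0, 23887870, 23887870, 0, 23887871, 2, 0, 23887871, 0, 0, 23887871, 0, 0, 0, 23887871, 23887871, 0, 0, 1, 0,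 0, 0, 0, 0, 0, 0, 0, 1, 0, 23887871, 0, 0, 0, 0, 0], [0, 0, 0, 0, 23887871, 0, 0, 0, 0, 0, 0, 0, 0, 0, 0, 0, 0, 0, 0, 0, 0, 0, 0, 0, 0, 0, 0, 0, 0, 0, 0, 0, 0, 0, 0, 0, 0, 0, 0], [0, 0, 0, 0, 1, 0, 0, 0, 0, 0, 0, 0, 0, 0, 0, 0, 0, 0, 0, 0, 0, 0, 0, 0, 0, 0, 0, 0, 0, 0, 0, 0, 0, 0, 0, 0, 0, 0, 0], [0, 0, 0, 0, 0, 0, 0, 0, 0, 0, 0, 0, 0, 0, 0, 0, 0, 0, 0, 0, 0, 0, 1, 0, 0, 0, 0, 0, 0, 0, 0, 0, 0, 0, 0, 0, 0, 0, 0], [23887871, 0, 0, 0, 23887871, 0, 23887870, 0, 23887870, 2, 23887868, 23887871, 23887871, 23887870, 1, 23887870, 23887871, 0, 23887871, 0, 0, 0, 0, 2, 23887870, 0, 0, 0, 0, 1, 0, 0, 23887871, 0, 0, 23887871, 0, 0, 0], [23887871, 0, 0, 0, 23887871, 0, 23887870, 0, 23887870, 2, 23887868, 23887871, 23887871,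 23887870, 1, 23887870, 23887871, 0, 23887871, 0, 0, 0, 0, 2, 23887870, 0, 0, 0, 0, 1, 0, 0, 23887871, 0, 0, 23887871, 0, 0, 0], [2, 23887871, 23887871, 1, 1, 23887871, 4, 0, 0, 23887869, 1, 0, 4, 2, 0, 4, 0, 0, 3, 23887870, 0, 0, 0, 23887870, 2, 0, 23887871, 0, 0, 0, 0, 0, 0, 0, 0, 23887871, 0, 0, 0], [0, 0, 0, 0, 0, 23887871, 0, 0, 0, 0, 0, 0, 0, 0, 0, 0, 0, 0, 0, 0, 0, 0, 0, 0, 0, 0, 0, 0, 0, 0, 0, 0, 0, 0, 0, 0, 0, 0, 0], [0, 2, 0, 23887870, 1, 3, 23887871, 0, 3, 0, 5, 0, 0, 1, 23887871, 1, 1, 0, 23887871, 0, 1, 0, 0, 0, 1, 23887871, 0, 23887871, 0, 23887871, 0, 0, 1, 0, 0, 0, 23887871, 0, 0], [0, 0, 0, 0, 0, 0, 0, 0, 0, 0, 0, 0, 0, 0, 0, 0, 0, 0, 0, 0, 0, 0, 0, 0, 0, 0, 0, 0, 0, 0, 0, 0, 0, 0, 0, 0, 23887871,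 0, 0], [0, 0, 0, 0, 0, 0, 0, 0, 0, 0, 0, 0, 0, 0, 0, 0, 1, 0, 0, 0, 0, 0, 0, 0, 0, 0, 0, 0, 0, 0, 0, 0, 0, 0, 0, 0, 0, 0, 0], [0, 0, 0, 0, 0, 0, 0, 0, 0, 0, 1, 0, 0, 0, 0, 0, 0, 0, 0, 0, 0, 0, 0, 0, 0, 0, 0, 0, 0, 0, 0, 0, 0, 0, 0, 0, 0, 0, 0], [1, 1, 0, 23887871, 1, 23887870, 23887870, 0, 1, 2, 1, 23887871, 1, 23887871, 23887871, 3, 23887871, 0, 23887870, 23887871, 0, 0, 1, 0, 0, 1, 23887871, 0, 0, 0, 0, 1, 0, 23887871, 0, 0, 0, 1, 0], [0, 0, 0, 0, 0, 0, 0, 0, 0, 0, 0, 0, 0, 23887871, 0, 0, 0, 0, 0, 0, 0, 0, 0, 0, 0, 0, 0, 0, 0, 0, 0, 0, 0, 0, 0, 0, 0, 1, 0], [0, 0, 0, 0, 0, 0, 0, 0, 0, 0, 0, 0, 0, 0, 0, 23887871, 0, 0, 0, 0, 0, 0, 0, 0, 0, 0, 0, 0, 0, 0, 0, 0, 0, 0, 0, 0, 0, 0, 0], [0, 0, 0, 0, 0, 0, 0, 0,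 0, 0, 0, 0, 0, 0, 0, 0, 0, 0, 0, 0, 0, 0, 0, 0, 0, 0, 0, 0, 0, 0, 0, 0, 0, 0, 0, 0, 0, 23887871, 0], [0, 23887871, 0, 2, 23887870, 0, 0, 0, 23887870, 0, 23887871, 0, 23887871, 1, 1, 23887869, 0, 0, 1, 0, 0, 0, 0, 0, 0, 23887871, 1, 0, 0, 0, 0, 0, 0, 0, 0, 0, 0, 23887871, 0], [2, 0, 23887871, 23887871, 2, 23887871, 4, 0, 2, 23887868, 2, 1, 4, 1, 23887871, 5, 0, 0, 1, 23887871, 0, 0, 0, 23887871, 2, 1, 23887871, 0, 0, 0, 0, 0, 0, 0, 0, 23887871, 0, 1, 0], [0, 23887868, 0, 4, 23887870, 23887864, 23887871, 0, 23887866, 2, 23887866, 23887871, 0, 0, 1, 23887869, 23887871, 0, 0, 23887871, 23887870, 0, 1, 0, 23887871, 0, 1, 1, 0, 1, 0, 2, 23887871, 23887871, 0, 0, 1, 0, 0], [0, 4, 0, 23887868, 2, 8, 1, 0, 6, 23887870,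 6, 1, 0, 0, 23887871, 3, 1, 0, 0, 1, 2, 0, 23887871, 0, 1, 0, 23887871, 23887871, 0, 23887871, 0, 23887870, 1, 1, 0, 0, 23887871, 0, 0], [23887868, 23887869, 1, 1, 23887868, 23887871, 6, 23887871, 4, 23887869, 1, 1, 23887871, 23887869, 2, 23887870, 23887870, 0, 23887870, 4, 23887870, 0, 23887870, 1, 23887871, 0, 2, 2, 0, 1, 0, 23887871, 0, 2, 0, 1, 1, 0, 1], [1, 5, 0, 23887867, 2, 4, 23887869, 2, 4, 2, 5, 23887871, 0, 1, 23887870, 2, 1, 0, 23887870, 23887870, 2, 0, 1, 1, 1, 0, 23887871, 23887870, 0, 23887871, 0, 0, 1, 23887871, 0, 0, 23887871, 0, 23887871], [23887867, 23887869, 1, 1, 23887869, 0, 6, 23887871, 2, 23887868, 23887871, 2, 0, 23887870, 2, 23887870, 23887871, 0, 23887871, 4, 23887870, 0, 23887870,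 1, 23887871, 1, 2, 2, 0, 1, 0, 23887871, 0, 2, 0, 1, 2, 0, 1], [0, 0, 0, 0, 0, 0, 0, 0, 0, 0, 0, 0, 0, 0, 1, 0, 0, 0, 0, 0, 0, 0, 0, 0, 0, 0, 0, 0, 0, 0, 0, 0, 0, 0, 0, 0, 0, 0, 0], [0, 0, 0, 23887871, 2, 23887871, 0, 0, 2, 0, 23887871, 0, 0, 23887870, 0, 3, 0, 0, 23887871, 0, 23887871, 0, 0, 0, 0, 0, 23887871, 0, 0, 0, 0, 0, 0, 0, 0, 0, 1, 0, 0], [0, 0, 0, 0, 0, 0, 0, 0, 0, 0, 0, 0, 0, 0, 0, 1, 0, 0, 0, 0, 0, 0, 0, 0, 0, 0, 0, 0, 0, 0, 0, 0, 0, 0, 0, 0, 0, 0, 0], [0, 0, 0, 0, 0, 0, 0, 0, 0, 0, 23887871, 0, 0, 0, 0, 0, 0, 0, 0, 0, 0, 0, 0, 0, 0, 0, 0, 0, 0, 0, 0, 0, 0, 0, 0, 0, 0, 0, 0], [23887871, 23887863, 0, 7, 23887871, 23887865, 11, 23887869, 23887871, 23887863, 23887867, 4, 1, 23887870, 3, 2, 23887870,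 0, 4, 4, 23887867, 0, 23887871, 23887867, 1, 0, 1, 5, 0, 2, 0, 0, 23887871, 2, 0, 1, 3, 0, 2], [1, 9, 0, 23887865, 1, 7, 23887861, 3, 1, 9, 5, 23887868, 23887871, 2, 23887869, 23887870, 2, 0, 23887868, 23887868, 5, 0, 1, 5, 23887871, 0, 23887871, 23887867, 0, 23887870, 0, 0, 1, 23887870, 0, 23887871, 23887869, 0, 23887870], [6, 2, 23887871, 23887871, 3, 0, 23887868, 1, 23887869, 2, 0, 23887869, 4, 1, 23887870, 4, 1, 0, 3, 23887866, 2, 0, 2, 23887870, 0, 23887871, 23887871, 23887870, 0, 23887871, 0, 1, 0, 23887870, 0, 23887871, 23887871, 0, 23887871], [0, 0, 0, 0, 0, 0, 0, 0, 23887871, 0, 0, 0, 0, 0, 0, 0, 0, 0, 0, 0, 0, 0, 0, 0, 0, 0, 0, 0, 0, 0, 0, 0, 0, 0, 0, 0, 0, 0, 0], [3, 14, 23887871, 23887860, 4, 17,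 23887865, 2, 9, 3, 17, 23887871, 3, 5, 23887868, 4, 4, 23887871, 23887869, 23887868, 8, 0, 0, 4, 3, 23887871, 23887871, 23887865, 0, 23887868, 0, 23887870, 3, 23887871, 0, 23887870, 23887867, 23887871, 23887870], [23887870, 23887857, 1, 13, 23887867, 23887854, 9, 23887870, 23887863, 23887867, 23887854, 3, 23887870, 23887867, 6, 23887868, 23887867, 1, 3, 5, 23887864, 0, 0, 23887869, 23887869, 1, 2, 7, 0, 5, 0, 2, 23887868, 1, 0, 2, 5, 1, 2], [23887870, 23887857, 1, 13, 23887867, 23887854, 9, 23887870, 23887863, 23887867, 23887854, 3, 23887870, 23887867, 6, 23887868, 23887867, 1, 3, 5, 23887864, 0, 0, 23887869, 23887869, 1, 2, 7, 0, 5, 0, 2, 23887868, 1, 0, 2, 5, 1, 2], [0, 5, 0, 23887870, 3, 3, 23887865, 1, 3,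 6, 4, 23887870, 23887867, 3, 23887869, 23887869, 1, 0, 23887869, 0, 2, 0, 1, 2, 1, 23887871, 23887870, 23887870, 0, 23887871, 0, 0, 1, 23887871, 0, 23887871, 23887870, 0, 23887871], [23887862, 23887867, 2, 0, 23887868, 23887871, 10, 23887871, 6, 23887866, 23887869, 6, 23887867, 23887868, 4, 23887868, 23887870, 0, 23887866, 11, 23887867, 0, 23887868, 3, 23887871, 2, 2, 4, 0, 2, 0, 23887870, 0, 4, 0, 3, 3, 0, 2], [23887866, 23887841, 3, 30, 23887861, 23887837, 17, 23887870, 23887849, 23887863, 23887839, 1, 23887860, 23887866, 9, 23887857, 23887864, 2, 9, 10, 23887854, 0, 23887871, 23887865, 23887869, 0, 3, 14, 0, 8, 0, 3, 23887866, 5, 0, 3, 9, 2, 4], [4, 0, 23887870, 23887871, 2, 6, 12, 23887869, 8, 23887859,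 8, 4, 9, 1, 1, 10, 0, 23887871, 4, 0, 1, 0, 23887870, 23887869, 4, 0, 1, 0, 0, 23887871, 0, 23887869, 1, 2, 0, 23887869, 23887871, 0, 1], [6, 31, 23887869, 23887842, 11, 35, 23887855, 2, 23, 9, 33, 23887871, 12, 6, 23887863, 15, 8, 23887870, 23887863, 23887862, 18, 0, 1, 7, 3, 0, 23887869, 23887858, 0, 23887864, 0, 23887869, 6, 23887867, 0, 23887869, 23887863, 23887870, 23887868], [11, 4, 23887870, 3, 3, 0, 23887860, 2, 23887864, 8, 3, 23887862, 4, 4, 23887869, 3, 2, 0, 7, 23887859, 5, 0, 5, 23887869, 2, 23887868, 23887870, 23887868, 0, 23887870, 0, 2, 0, 23887868, 0, 23887868, 23887869, 0, 23887870], [12, 4, 23887870, 3, 3, 0, 23887860, 2, 23887864, 8, 3, 23887862, 4, 4, 23887869, 3, 2, 0, 7, 23887859, 5, 0,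 5, 23887869, 2, 23887868, 23887870, 23887868, 0, 23887870, 0, 2, 0, 23887868, 0, 23887868, 23887869, 0, 23887870], [23887864, 8, 2, 23887861, 1, 16, 4, 0, 14, 23887870, 8, 5, 23887868, 23887869, 1, 1, 1, 23887871, 23887864, 7, 2, 0, 23887868, 7, 23887871, 2, 23887870, 23887870, 0, 23887871, 0, 23887868, 2, 3, 0, 2, 23887871, 23887871, 1], [0, 0, 0, 0, 0, 0, 0, 0, 0, 0, 0, 0, 0, 0, 0, 0, 0, 0, 0, 0, 0, 0, 0, 0, 0, 0, 0, 0, 0, 0, 0, 0, 0, 0, 0, 0, 0, 0, 0], [3, 23887866, 23887871, 4, 23887868, 23887870, 12, 23887870, 23887868, 23887859, 23887871, 4, 8, 1, 5, 3, 0, 23887871, 7, 23887871, 23887871, 1, 23887871, 23887868, 3, 23887871, 4, 2, 0, 1, 0, 0, 0, 1, 0, 0, 1, 23887871, 1], [1, 5, 0, 23887866, 3, 2, 23887867,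 1, 2, 4, 2, 2, 1, 1, 23887870, 1, 1, 0, 23887869, 0, 2, 0, 1, 1, 23887871, 1, 23887871, 23887870, 0, 23887871, 0, 1, 1, 23887870, 0, 1, 23887871, 0, 23887871], [23887848, 23887864, 4, 23887866, 23887866, 0, 24, 23887868, 16, 23887856, 23887866, 20, 23887864, 23887864, 6, 23887866, 23887868, 0, 23887858, 26, 23887862, 0, 23887862, 6, 23887868, 8, 4, 8, 0, 4, 2, 23887868, 0, 8, 0, 8, 6, 0, 4], [0, 23887871, 0, 0, 0, 0, 23887871, 0, 23887869, 1, 23887867, 23887871, 0, 23887871, 1, 23887871, 23887871, 23887871, 23887871, 0, 0, 0, 0, 1, 23887871, 0, 0, 23887871, 0, 1, 23887871, 23887871, 23887870, 0, 0, 23887871, 0, 0, 0], [23887850, 23887864, 4, 23887866, 23887866, 0, 24, 23887868, 16, 23887856, 23887866, 20, 23887864,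 23887864, 6, 23887866, 23887868, 0, 23887858, 26, 23887862, 0, 23887862, 6, 23887868, 8, 4, 8, 0, 4, 0, 23887868, 0, 8, 0, 8, 6, 0, 4], [4, 44, 23887867, 23887833, 26, 27, 23887828, 9, 14, 23, 31, 1, 2, 17, 23887853, 7, 16, 23887870, 23887858, 23887862, 20, 0, 6, 10, 9, 8, 23887866, 23887850, 0, 23887865, 4, 1, 2, 23887862, 0, 23887867, 23887858, 23887870, 23887861], [23887870, 0, 0, 0, 2, 0, 1, 0, 0, 1, 0, 0, 0, 0, 0, 0, 2, 0, 0, 0, 0, 0, 0, 0, 0, 0, 0, 23887870, 0, 0, 0, 0, 0, 0, 0, 0, 0, 0, 0], [1, 0, 0, 0, 23887871, 0, 0, 0, 0, 23887871, 0, 0, 0, 0, 0, 0, 23887871, 0, 0, 0, 0, 0, 0, 0, 0, 0, 0, 1, 0, 0, 0, 0, 0, 0, 0, 0, 0, 0, 0], [12, 23887795, 1, 85, 23887846, 23887772, 40, 23887857, 23887821, 23887854,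 23887807, 23887855, 23887861, 23887853, 25, 23887858, 23887847, 8, 26, 5, 23887832, 0, 5, 23887848, 23887867, 23887854, 4, 38, 23887871, 15, 23887868, 13, 23887857, 2, 23887871, 23887870, 26, 2, 10], [23887855, 23887692, 13, 164, 23887816, 23887670, 123, 23887846, 23887787, 23887801, 23887704, 23887869, 23887850, 23887799, 55, 23887856, 23887817, 11, 49, 44, 23887769, 23887871, 23887868, 23887817, 23887849, 23887865, 13, 92, 0, 43, 23887865, 14, 23887839, 25, 1, 21, 63, 11, 29], [23887830, 23887814, 6, 45, 23887826, 23887834, 58, 23887870, 23887854, 23887845, 23887811, 9, 23887842, 23887842, 32, 23887833, 23887848, 3, 23887867, 44, 23887837, 1, 23887855, 8, 23887854, 23887869, 13, 31, 0, 16, 23887868, 23887866,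 23887864, 20, 0, 15, 25, 1, 13], [65, 154, 23887853, 23887764, 87, 80, 23887671, 30, 9, 141, 107, 23887830, 23887867, 74, 23887799, 14, 47, 0, 23887849, 23887790, 85, 0, 39, 27, 26, 23887860, 23887835, 23887786, 23887871, 23887837, 4, 16, 16, 23887821, 23887871, 23887834, 23887812, 23887867, 23887831], [23887851, 23887856, 2, 3, 23887859, 37, 60, 23887867, 19, 23887826, 23887870, 17, 13, 23887848, 15, 25, 23887864, 0, 19, 8, 23887867, 23887870, 23887860, 23887859, 23887861, 3, 23887863, 15, 0, 23887871, 23887871, 23887858, 4, 19, 0, 5, 8, 23887870, 10], [43, 169, 23887858, 23887753, 109, 125, 23887653, 31, 23887831, 129, 51, 1, 23887864, 89, 23887799, 23887858, 74, 23887860, 23887871, 23887797, 93, 1, 28, 26,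 23, 29, 23887838, 23887777, 0, 23887838, 23, 6, 20, 23887831, 3, 23887848, 23887811, 23887859, 23887824], [37, 39, 23887864, 23887836, 9, 43, 23887858, 0, 29, 6, 56, 23887853, 40, 5, 23887864, 49, 3, 23887870, 23887870, 23887837, 28, 0, 10, 1, 6, 23887861, 23887862, 23887850, 0, 23887861, 23887867, 0, 3, 23887857, 0, 23887857, 23887856, 23887871, 23887867], [23887636, 23887627, 57, 141, 23887698, 23887743, 340, 23887819, 79, 23887662, 23887698, 112, 23887749, 23887707, 150, 23887757, 23887774, 11, 23887786, 266, 23887690, 1, 23887766, 48, 23887820, 26, 69, 159, 0, 74, 23887859, 23887837, 23887848, 125, 23887871, 79, 114, 0, 74], [173, 47, 23887836, 22, 42, 24, 23887771, 23887871, 23887768, 64, 43, 23887781,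 116, 65, 23887821, 87, 21, 0, 119, 23887682, 77, 1, 64, 23887794, 20, 23887831, 23887843, 23887824, 0, 23887838, 23887868, 27, 8, 23887810, 23887871, 23887820, 23887826, 23887867, 23887850], [23887836, 23887866, 8, 2, 23887868, 12, 23887853, 4, 23887849, 24, 23887830, 15, 23887834, 23887869, 14, 23887834, 0, 23887869, 23887862, 21, 23887866, 0, 23887864, 16, 23887859, 14, 23887870, 23887869, 0, 7, 3, 23887871, 23887871, 6, 1, 11, 3, 23887867, 2], [0, 0, 0, 0, 1, 0, 0, 0, 0, 0, 0, 0, 0, 0, 0, 1, 0, 0, 0, 0, 0, 0, 0, 0, 0, 0, 23887871, 0, 0, 0, 0, 0, 0, 0, 0, 0, 0, 0, 0], [62, 53, 23887856, 23887862, 31, 21, 23887785, 15, 23887829, 53, 14, 23887844, 25, 37, 23887844, 13, 15, 0, 23, 23887806, 42, 1, 26, 23887870,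 8, 23887863, 23887855, 23887832, 0, 23887860, 2, 12, 1, 23887841, 0, 23887849, 23887845, 23887871, 23887856], [23887865, 53, 1, 23887830, 32, 48, 23887817, 10, 14, 49, 19, 8, 23887847, 18, 23887854, 23887861, 16, 23887870, 23887844, 2, 22, 0, 3, 20, 0, 4, 23887863, 23887843, 0, 23887863, 1, 23887867, 6, 23887862, 0, 23887871, 23887858, 23887870, 23887864], [8, 23887822, 9, 76, 23887847, 23887794, 23887862, 1, 23887792, 30, 23887791, 23887859, 23887851, 23887868, 15, 23887831, 23887853, 2, 16, 23887866, 23887853, 0, 11, 23887862, 23887854, 5, 23887870, 19, 0, 13, 0, 16, 23887859, 23887864, 1, 9, 11, 2, 2], [63, 23887765, 23887866, 141, 23887846, 23887709, 12, 23887868, 23887747, 9, 23887765, 23887800, 3, 23887865,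 14, 23887862, 23887839, 10, 68, 23887822, 23887830, 23887870, 34, 23887817, 23887864, 23887841, 23887867, 38, 0, 20, 23887864, 29, 23887843, 23887855, 0, 23887856, 22, 9, 5], [195, 23887741, 23887839, 221, 9, 23887613, 23887816, 23887871, 23887591, 28, 23887692, 23887751, 80, 40, 1, 29, 23887844, 20, 188, 23887694, 23887848, 0, 86, 23887745, 7, 23887829, 23887856, 26, 23887871, 15, 23887868, 69, 23887827, 23887808, 23887870, 23887820, 17, 9, 23887857], [128, 27, 23887841, 38, 18, 23887857, 23887780, 4, 23887766, 45, 21, 23887801, 91, 65, 23887819, 24, 18, 23887870, 102, 23887728, 60, 1, 45, 23887817, 13, 23887858, 3, 23887839, 0, 23887853, 5, 26, 0, 23887824, 0, 23887830, 23887829, 3, 23887851], [70, 10, 23887862,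 20, 10, 0, 23887832, 0, 23887802, 20, 10, 23887842, 40, 50, 23887852, 0, 10, 0, 50, 23887812, 30, 0, 20, 23887852, 10, 23887862, 0, 23887852, 0, 23887862, 0, 10, 0, 23887852, 0, 23887852, 23887852, 0, 23887862], [14, 8, 23887870, 23887867, 9, 23887871, 23887859, 4, 23887865, 10, 4, 23887866, 5, 8, 23887867, 5, 4, 0, 0, 23887859, 6, 0, 6, 23887871, 3, 23887869, 23887869, 23887866, 0, 23887869, 23887871, 2, 23887871, 23887865, 0, 23887869, 23887868, 0, 23887869], [23887848, 43, 11, 23887830, 27, 61, 23887830, 7, 40, 23, 24, 19, 23887842, 2, 23887863, 23887866, 10, 23887870, 23887844, 32, 15, 23887871, 23887861, 28, 23887867, 14, 23887865, 23887858, 0, 23887871, 5, 23887855, 4, 8, 0, 6, 23887866, 1, 23887869],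 [74, 23887671, 23887868, 188, 23887780, 23887667, 223, 23887820, 23887832, 23887713, 23887782, 23887824, 93, 23887789, 72, 90, 23887790, 15, 91, 23887851, 23887784, 23887871, 4, 23887782, 23887867, 23887827, 19, 102, 0, 33, 23887848, 14, 23887841, 18, 0, 23887857, 60, 15, 40], [63, 9, 23887862, 18, 31, 23887817, 23887833, 23887861, 23887818, 23, 0, 23887848, 49, 18, 23887848, 25, 11, 1, 33, 23887810, 15, 1, 26, 23887839, 4, 23887871, 23887866, 23887864, 0, 23887868, 1, 24, 23887869, 23887842, 0, 23887858, 23887861, 2, 23887859], [23887833, 23887702, 24, 151, 23887809, 23887735, 147, 23887843, 23887835, 23887801, 23887734, 23887863, 23887842, 23887796, 65, 23887852, 23887819, 11, 30, 51, 23887775, 0, 23887858,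 23887839, 23887841, 23887853, 9, 85, 1, 34, 23887859, 2, 23887847, 35, 1, 16, 60, 11, 35], [23887714, 478, 18, 23887326, 120, 682, 23887698, 64, 410, 104, 432, 116, 23887870, 36, 23887770, 66, 130, 23887840, 23887654, 58, 214, 23887868, 23887794, 220, 2, 50, 23887848, 23887682, 23887870, 23887762, 20, 23887766, 112, 28, 2, 20, 23887754, 23887840, 23887822], [23887697, 23887852, 42, 23887820, 23887810, 168, 172, 23887861, 164, 23887762, 38, 91, 23887811, 23887798, 63, 23887835, 23887859, 23887864, 23887799, 171, 23887840, 1, 23887776, 79, 23887847, 9, 42, 33, 0, 8, 23887870, 23887798, 27, 92, 23887870, 54, 33, 23887865, 38], [46, 23887778, 23887869, 116, 23887851, 23887715, 4, 23887868, 23887748, 4, 23887745,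 23887825, 14, 23887856, 24, 23887864, 23887848, 8, 62, 23887824, 23887831, 2, 26, 23887831, 23887858, 23887863, 3, 33, 0, 20, 23887869, 33, 23887849, 23887859, 1, 23887865, 29, 2, 4], [23887815, 23887854, 17, 9, 23887868, 9, 23887862, 23887862, 23887849, 7, 23887775, 27, 23887832, 23887816, 13, 23887839, 1, 23887867, 23887869, 36, 23887848, 1, 23887856, 9, 23887832, 22, 23887868, 18, 1, 14, 0, 23887869, 3, 20, 2, 32, 24, 23887867, 12], [23887870, 23887799, 3, 70, 23887836, 23887811, 69, 23887855, 23887838, 23887833, 23887807, 23887868, 23887870, 23887844, 34, 23887865, 23887843, 4, 23, 12, 23887834, 0, 23887865, 23887854, 23887859, 23887859, 11, 38, 0, 16, 23887866, 1, 23887862, 10, 0, 4, 22, 0, 15], [23887850,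 23887757, 3, 91, 23887828, 23887758, 101, 23887849, 23887834, 23887807, 23887809, 7, 23887870, 23887862, 32, 23887855, 23887834, 8, 16, 41, 23887816, 1, 23887867, 23887833, 0, 23887858, 17, 51, 0, 26, 23887868, 13, 23887857, 13, 23887871, 9, 28, 6, 26], [23887733, 23887571, 33, 228, 23887718, 23887630, 286, 23887818, 23887806, 23887709, 23887663, 39, 23887791, 23887784, 118, 23887768, 23887764, 17, 23887870, 170, 23887703, 2, 23887824, 23887828, 23887836, 23887850, 52, 153, 0, 75, 23887860, 6, 23887833, 73, 0, 46, 95, 10, 74], [23887836, 175, 0, 23887663, 82, 217, 23887803, 16, 151, 28, 161, 56, 16, 28, 23887822, 45, 56, 23887855, 23887785, 18, 73, 23887871, 23887848, 65, 12, 29, 23887855, 23887802, 0, 23887834,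 5, 23887838, 40, 1, 1, 9, 23887828, 23887861, 23887855], [13, 12, 23887870, 23887871, 2, 8, 23887863, 23887870, 23887856, 2, 23887871, 4, 18, 7, 23887871, 23887870, 5, 23887870, 13, 23887861, 10, 1, 2, 23887868, 23887870, 4, 2, 23887866, 0, 23887867, 1, 3, 2, 23887867, 0, 23887871, 23887867, 23887870, 23887870], [23887863, 23887781, 5, 80, 23887806, 23887809, 77, 23887864, 23887838, 23887839, 23887823, 23887845, 23887867, 23887843, 38, 23887842, 23887841, 4, 24, 8, 23887837, 0, 23887868, 23887857, 23887860, 23887848, 18, 40, 0, 13, 23887863, 1, 23887862, 14, 23887870, 5, 21, 6, 19], [61, 23887794, 23887860, 108, 23887849, 23887749, 0, 23887857, 23887764, 12, 23887806, 23887821, 19, 2, 5, 23887860, 23887851,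 7, 62, 23887815, 23887850, 2, 24, 23887827, 23887868, 23887846, 5, 28, 0, 8, 23887864, 28, 23887859, 23887855, 23887870, 23887853, 15, 1, 4], [3, 11, 23887871, 23887861, 2, 14, 23887866, 2, 5, 3, 8, 0, 3, 3, 23887871, 2, 2, 23887871, 23887871, 23887869, 7, 0, 0, 5, 1, 0, 23887871, 23887865, 0, 23887870, 0, 23887870, 1, 23887871, 0, 23887869, 23887868, 23887871, 23887870], [23887847, 10, 4, 1, 22, 23887850, 23887822, 12, 23887831, 32, 23887824, 19, 23887826, 15, 23887863, 23887817, 20, 23887869, 23887865, 12, 23887867, 1, 1, 12, 23887868, 20, 23887871, 23887862, 0, 2, 11, 6, 23887871, 23887870, 1, 10, 1, 23887867, 23887862]]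

/-- the twist of a word -/
noncomputable def Ev (w : ℕ) : List ℕ := lnthN evL w

/-- all relator words -/
def relL : List (List ℕ) := [[0, 0, 0, 0, 0, 0, 0, 0, 0, 0, 0], [2, 2, 2, 2, 2], [2, 0, 3, 1, 1, 1], [4, 4, 4, 4, 4, 4, 4, 4, 4, 4, 4], [0, 1], [1, 0], [2, 3], [3, 2], [4, 5], [5, 4], [0, 4, 0, 4, 0, 4, 0, 4], [0, 5, 0, 5, 0, 5, 0, 5, 0, 5], [0, 4, 1, 5, 0, 4, 1, 5, 0, 4, 1, 5], [0, 0, 4, 4, 4, 4, 1, 4, 3, 1, 2, 5, 5], [0, 3, 4, 3, 4, 2, 5, 3, 4, 1, 4, 4, 2], [0, 0, 5, 5, 3, 1, 2, 4, 1, 4, 4, 4, 4], [0, 0, 2, 5, 5, 5, 0, 4, 3, 0, 4, 4, 0, 4], [0, 0, 4, 1, 4, 3, 3, 4, 0, 3, 3, 4, 2, 4], [0, 0, 4, 2, 2, 4, 4, 2, 0, 2, 5, 1, 1, 5], [0, 3, 0, 4, 0, 4, 4, 1, 2, 4, 0, 5, 5, 5], [0, 0, 4, 1, 1, 5, 2, 0, 2, 5,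 5, 2, 2, 4], [0, 2, 1, 5, 5, 0, 4, 0, 5, 5, 1, 3, 3, 4, 2], [0, 0, 3, 3, 4, 4, 1, 4, 2, 0, 5, 5, 1, 1, 5], [0, 3, 3, 5, 5, 0, 5, 1, 2, 2, 5, 5, 3, 4, 4], [0, 0, 3, 4, 2, 5, 2, 5, 0, 5, 3, 1, 4, 4, 3], [0, 0, 4, 3, 3, 0, 5, 5, 0, 5, 2, 0, 0, 4, 4], [0, 0, 5, 2, 4, 2, 0, 3, 4, 0, 5, 2, 4, 3, 5], [0, 0, 5, 3, 4, 1, 4, 1, 2, 1, 5, 1, 2, 5, 2], [0, 2, 5, 5, 2, 2, 4, 1, 4, 0, 5, 0, 5, 5, 5], [0, 2, 5, 1, 4, 4, 2, 1, 2, 4, 3, 4, 4, 1, 4], [0, 3, 4, 3, 4, 2, 1, 5, 3, 3, 4, 4, 4, 4, 4], [0, 0, 5, 3, 4, 2, 4, 1, 3, 4, 1, 5, 0, 2, 5], [0, 0, 5, 3, 5, 0, 2, 5, 5, 0, 2, 2, 5, 1, 4], [0, 2, 5, 5, 0, 5, 5, 3, 4, 0, 4, 2, 5, 5, 2], [0, 5, 5, 2, 4, 4, 2, 5, 5, 3, 5, 3, 3, 4, 4], [0, 4, 4, 1, 2, 4, 3, 5, 5, 1, 4, 4, 2, 5, 2],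 [0, 0, 4, 4, 1, 3, 3, 4, 3, 4, 2, 5, 5, 0, 4, 4], [0, 2, 4, 3, 0, 2, 4, 3, 0, 5, 1, 5, 1, 2, 4, 3], [0, 2, 4, 2, 5, 0, 2, 4, 2, 5, 0, 2, 4, 2, 5], [0, 0, 2, 4, 1, 2, 4, 2, 0, 4, 3, 0, 0, 5, 0, 5], [0, 3, 0, 4, 0, 4, 2, 1, 4, 2, 0, 4, 0, 4, 3, 5], [0, 2, 4, 3, 4, 3, 4, 2, 1, 3, 4, 0, 4, 4, 4, 3], [0, 0, 4, 4, 1, 5, 5, 1, 4, 4, 1, 3, 4, 1, 4, 2], [0, 2, 4, 4, 1, 5, 0, 5, 2, 2, 0, 4, 0, 3, 3, 5], [0, 3, 0, 5, 5, 3, 0, 5, 5, 3, 3, 4, 4, 4, 3, 4], [0, 0, 3, 5, 2, 0, 0, 5, 5, 1, 3, 5, 0, 2, 0, 5], [0, 0, 0, 5, 2, 0, 4, 4, 1, 1, 5, 1, 4, 3, 5, 5], [0, 3, 5, 3, 4, 3, 4, 0, 5, 1, 3, 0, 5, 5, 0, 5], [0, 0, 5, 0, 5, 3, 5, 5, 2, 5, 0, 5, 3, 3, 0, 4], [0, 0, 0, 0, 3, 1, 2], [0, 0, 2, 2, 0, 3, 3], [0, 2, 1, 2, 1, 3, 3], [0,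 2, 0, 3, 3, 1, 2], [0, 0, 0, 3, 0, 0, 2], [0, 0, 3, 3, 0, 2, 0, 2], [0, 0, 3, 0, 3, 0, 2, 2], [0, 0, 3, 3, 3, 0, 3, 3], [0, 0, 2, 2, 0, 2, 2, 2], [0, 2, 0, 2, 2, 2, 1, 2], [0, 2, 1, 2, 1, 2, 2, 2], [0, 0, 4, 4, 4, 4, 1, 4, 2, 1, 3, 1, 5, 5], [0, 2, 0, 3, 5, 0, 5, 5, 5, 5, 2, 1, 3, 0, 4, 4], [0, 0, 0, 0, 5, 0, 5, 5, 5, 5, 1, 1, 4, 4], [0, 0, 4, 4, 4, 4, 1, 4, 1, 2, 1, 3, 5, 5], [0, 0, 0, 4, 3, 4, 2, 5, 3, 4, 1, 4, 4], [0, 0, 0, 4, 3, 4, 2, 5, 2, 2, 2, 2, 4, 1, 4, 4], [0, 0, 0, 4, 3, 4, 3, 3, 3, 3, 5, 3, 4, 1, 4, 4], [0, 0, 0, 4, 2, 2, 2, 2, 4, 2, 5, 3, 4, 1, 4, 4], [0, 3, 4, 2, 5, 3, 4, 0, 4, 4, 4, 0, 5, 0, 5], [0, 4, 4, 4, 4, 1, 4, 1, 4, 3, 4, 2, 5, 3, 4], [0, 0, 0, 4, 1, 4, 1, 4, 1, 5, 5, 5, 1, 1, 4, 4], [0,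 2, 0, 3, 1, 2, 1, 3], [0, 0, 0, 0, 4, 4, 1, 1, 5, 5, 5, 5, 0, 5], [0, 0, 5, 5, 1, 2, 1, 3, 4, 1, 4, 4, 4, 4], [0, 0, 5, 5, 2, 1, 3, 1, 4, 1, 4, 4, 4, 4], [0, 0, 0, 0, 4, 4, 0, 2, 1, 3, 5, 5, 5, 5, 0, 5], [0, 0, 3, 0, 4, 1, 4, 4, 4, 4, 0, 0, 5, 5, 2], [0, 2, 4, 4, 2, 1, 3, 0, 5, 5, 5, 5, 0, 5, 3], [0, 0, 5, 5, 5, 5, 5, 5, 5, 1, 4, 3, 1, 2, 5, 5], [0, 4, 1, 2, 0, 5, 5, 5, 0, 4, 3, 0, 4, 4], [0, 0, 2, 1, 5, 1, 4, 4, 4, 1, 3, 0, 5, 1, 5, 5], [0, 2, 5, 5, 5, 0, 4, 3, 0, 4, 1, 5, 1, 5], [0, 0, 2, 1, 5, 1, 4, 4, 4, 3, 1, 4, 0, 4, 0, 5], [0, 0, 0, 3, 5, 1, 5, 5, 1, 2, 5, 1, 4, 4, 4], [0, 0, 4, 1, 4, 2, 2, 2, 4, 0, 3, 3, 4, 2, 4], [0, 0, 4, 1, 4, 3, 3, 4, 0, 2, 2, 2, 4, 2, 4], [0, 0, 4, 0, 3, 3, 1, 5, 5, 3, 3, 5, 1,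 1, 4], [0, 0, 4, 2, 2, 4, 4, 2, 0, 2, 5, 0, 2, 1, 3, 5], [0, 3, 5, 1, 5, 1, 4, 1, 2, 4, 0, 5, 5, 5], [0, 0, 2, 1, 4, 0, 5, 5, 5, 0, 3, 5, 1, 5, 1, 4], [0, 0, 0, 5, 1, 5, 1, 4, 1, 2, 4, 0, 5, 5, 5, 3], [0, 2, 4, 0, 4, 4, 1, 2, 4, 0, 5, 5, 5, 3, 3], [0, 2, 5, 5, 2, 5, 2, 2, 1, 5, 2, 2, 5, 1, 5, 2], [0, 0, 4, 1, 1, 5, 0, 2, 2, 1, 5, 5, 2, 2, 4], [0, 0, 3, 3, 0, 4, 0, 0, 5, 1, 1, 5, 3, 3, 4, 4], [0, 0, 2, 2, 5, 2, 2, 5, 0, 5, 1, 1, 5, 3, 5], [0, 0, 3, 4, 0, 0, 5, 1, 1, 5, 3, 3, 4, 4, 1, 3], [0, 0, 4, 1, 1, 5, 3, 3, 0, 3, 0, 5, 5, 2, 2, 4], [0, 3, 5, 5, 0, 4, 0, 5, 5, 1, 3, 3, 4, 3, 3], [0, 2, 5, 2, 2, 0, 4, 4, 1, 5, 1, 4, 4, 1, 2, 2], [0, 0, 3, 5, 2, 2, 0, 4, 4, 1, 5, 1, 4, 4, 3], [0, 0, 4, 2, 0, 2, 1, 5, 5, 0,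 4, 0, 5, 5, 3, 3], [0, 0, 4, 4, 1, 3, 5, 0, 5, 5, 0, 2, 0, 2, 4], [0, 0, 4, 4, 1, 3, 5, 0, 5, 5, 3, 0, 2, 2, 2, 4], [0, 0, 4, 4, 1, 3, 5, 0, 5, 5, 3, 0, 3, 3, 4], [0, 0, 4, 4, 1, 3, 5, 0, 5, 5, 3, 3, 1, 3, 0, 4], [0, 3, 0, 4, 3, 5, 2, 5, 1, 2, 2, 5, 5, 2, 4, 4], [0, 3, 0, 3, 4, 1, 4, 4, 2, 2, 1, 5, 5, 2, 4, 4], [0, 2, 2, 0, 5, 5, 3, 4, 4, 0, 3, 3, 5, 5, 0, 5], [0, 3, 3, 5, 5, 0, 5, 1, 3, 3, 3, 5, 5, 3, 4, 4], [0, 2, 5, 5, 2, 4, 4, 3, 3, 0, 4, 1, 4, 4, 1, 2], [0, 2, 4, 1, 4, 3, 4, 3, 5, 3, 3, 0, 3, 5, 5], [0, 4, 4, 1, 5, 2, 4, 1, 4, 3, 4, 3, 5, 5, 2, 2], [0, 2, 4, 1, 4, 3, 4, 3, 5, 3, 1, 3, 3, 0, 5, 5], [0, 0, 3, 3, 1, 4, 2, 5, 2, 5, 0, 5, 3, 1, 4, 4], [0, 2, 4, 1, 4, 3, 4, 3, 5, 1, 2, 1, 2, 0, 5, 5], [0, 2,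 4, 2, 2, 4, 4, 3, 4, 4, 4, 4, 1, 5, 0, 5], [0, 0, 3, 4, 4, 0, 0, 4, 3, 0, 2, 5, 5, 2, 4, 4], [0, 0, 4, 2, 2, 0, 2, 4, 3, 4, 2, 5, 0, 0, 4, 4], [0, 0, 4, 3, 0, 3, 0, 4, 3, 4, 2, 5, 0, 0, 4, 4], [0, 0, 0, 5, 5, 0, 2, 4, 1, 4, 3, 4, 3, 5, 2, 2], [0, 0, 4, 0, 3, 0, 3, 5, 5, 0, 5, 2, 0, 0, 4, 4], [0, 0, 4, 1, 3, 3, 1, 5, 5, 0, 5, 2, 0, 0, 4, 4], [0, 0, 4, 1, 4, 4, 1, 2, 2, 5, 1, 1, 5, 5, 0, 3], [0, 0, 4, 2, 1, 3, 0, 5, 2, 0, 2, 5, 5, 2, 2, 4], [0, 0, 0, 4, 4, 4, 2, 0, 3, 4, 0, 3, 1, 5, 2, 4], [0, 0, 0, 4, 0, 3, 1, 5, 2, 4, 0, 0, 0, 4, 4, 4], [0, 0, 0, 4, 3, 0, 0, 5, 2, 4, 0, 0, 0, 4, 4, 4], [0, 0, 0, 4, 0, 3, 1, 5, 2, 4, 2, 0, 3, 4, 4, 4], [0, 0, 3, 1, 4, 3, 0, 4, 0, 3, 0, 5, 0, 5, 2, 4], [0, 0, 5, 3, 4, 1, 4, 3,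 1, 2, 2, 5, 1, 2, 5, 2], [0, 0, 5, 1, 2, 5, 2, 0, 0, 5, 3, 4, 1, 4, 0, 2], [0, 2, 5, 0, 5, 1, 4, 1, 4, 4, 4, 2, 1, 4, 4, 2], [0, 0, 5, 2, 1, 3, 4, 0, 5, 0, 5, 5, 5, 3, 4], [0, 0, 0, 4, 1, 1, 5, 2, 4, 4, 4, 1, 4, 1, 5], [0, 0, 4, 3, 4, 4, 1, 3, 3, 5, 0, 4, 4, 2, 5, 2], [0, 2, 5, 0, 5, 5, 5, 5, 2, 1, 3, 0, 4, 4, 3], [0, 0, 0, 0, 5, 0, 5, 5, 5, 5, 2, 1, 3, 0, 4, 4], [0, 2, 0, 5, 5, 1, 3, 3, 4, 3, 4, 3, 4, 4, 1, 4], [0, 2, 5, 1, 4, 4, 1, 2, 2, 0, 4, 3, 4, 4, 1, 4], [0, 5, 2, 4, 1, 5, 3, 3, 4, 4, 4, 4, 4, 3, 5, 5], [0, 3, 4, 3, 4, 2, 1, 5, 3, 3, 5, 5, 5, 5, 5, 5], [0, 2, 2, 1, 5, 5, 0, 5, 5, 3, 4, 0, 4, 2, 5, 5], [0, 0, 4, 3, 4, 4, 2, 5, 5, 1, 1, 3, 3, 5, 3, 5], [0, 0, 4, 3, 4, 4, 2, 5, 5, 3, 0, 3, 0, 5, 3, 5], [0,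 0, 4, 3, 4, 4, 2, 5, 5, 2, 2, 0, 2, 5, 3, 5], [0, 0, 5, 0, 2, 1, 3, 5, 3, 3, 4, 4, 3, 1, 3, 4], [0, 2, 1, 5, 0, 5, 0, 4, 0, 4, 1, 4, 2, 5, 5, 2], [0, 0, 3, 4, 4, 3, 5, 0, 5, 1, 5, 1, 4, 1, 4, 3], [0, 3, 5, 0, 5, 0, 4, 0, 4, 1, 4, 2, 5, 5, 3, 3], [0, 0, 4, 0, 4, 4, 1, 4, 0, 3, 1, 3, 4, 4, 3, 5], [0, 4, 2, 5, 5, 3, 5, 2, 4, 1, 4, 1, 4, 2, 2, 5], [0, 3, 4, 0, 4, 1, 2, 4, 4, 2, 2, 4, 4, 1, 4, 4], [0, 2, 2, 5, 0, 4, 2, 5, 5, 3, 5, 2, 0, 5, 0, 5], [0, 0, 5, 1, 4, 1, 4, 0, 5, 5, 0, 4, 1, 4, 1, 5], [0, 2, 4, 0, 4, 1, 2, 4, 4, 2, 4, 0, 4, 2, 5, 5], [0, 0, 4, 4, 4, 1, 5, 3, 0, 5, 5, 1, 5, 0, 2], [0, 0, 5, 5, 3, 1, 2, 4, 1, 5, 5, 5, 5, 5, 5, 5], [0, 3, 0, 5, 2, 2, 0, 4, 4, 1, 5, 1, 4, 4, 1, 3], [0, 0, 5, 0, 3, 0, 4, 3,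 4, 1, 2, 2, 5, 0, 3, 4], [0, 0, 2, 4, 1, 4, 4, 4, 4, 0, 0, 5, 5, 1, 3], [0, 0, 3, 5, 5, 0, 0, 4, 4, 4, 4, 1, 4, 0, 2], [0, 0, 5, 5, 1, 3, 1, 2, 0, 4, 1, 4, 4, 4, 4], [0, 0, 4, 3, 0, 4, 0, 3, 0, 5, 0, 5, 2, 4, 0, 3], [0, 0, 4, 1, 5, 5, 1, 1, 5, 5, 1, 4, 0, 0, 4, 4], [0, 0, 4, 4, 3, 3, 1, 5, 5, 0, 5, 2, 5, 0, 4, 4], [0, 2, 1, 2, 4, 4, 1, 5, 1, 4, 4, 0, 3, 1, 3, 5], [0, 0, 4, 1, 5, 0, 4, 1, 5, 0, 4, 4, 0, 4, 0, 4], [0, 2, 1, 5, 3, 5, 1, 5, 1, 2, 4, 3, 0, 5, 1, 5], [0, 0, 4, 0, 4, 1, 2, 5, 3, 0, 4, 0, 4, 2, 4, 3], [0, 0, 4, 0, 4, 1, 2, 5, 3, 5, 1, 5, 1, 2, 4, 3], [0, 2, 1, 5, 3, 0, 4, 0, 4, 2, 4, 3, 0, 5, 1, 5], [0, 0, 4, 0, 4, 2, 4, 3, 0, 2, 4, 3, 0, 2, 4, 3], [0, 2, 1, 5, 3, 1, 2, 5, 3, 1, 2, 5, 3, 5, 1, 5], [0,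 2, 4, 1, 2, 4, 2, 0, 4, 3, 0, 4, 1, 4, 1, 4], [0, 0, 2, 4, 0, 5, 0, 5, 5, 5, 3, 4, 0, 0, 5, 3], [0, 3, 4, 1, 2, 4, 0, 5, 5, 2, 0, 4, 0, 4, 3, 5], [0, 3, 4, 1, 2, 4, 0, 5, 5, 2, 5, 1, 5, 1, 3, 5], [0, 0, 2, 4, 1, 2, 4, 2, 0, 4, 0, 3, 1, 5, 0, 5], [0, 2, 1, 5, 1, 3, 5, 3, 0, 5, 1, 3, 0, 4, 1, 4], [0, 0, 0, 5, 2, 5, 2, 5, 3, 1, 2, 5, 5, 5, 1, 5], [0, 0, 0, 4, 4, 1, 1, 5, 5, 5, 1, 4, 1, 4, 1, 4], [0, 0, 2, 0, 2, 5, 5, 0, 2, 4, 1, 4, 3, 4, 3, 5], [0, 0, 4, 1, 1, 3, 3, 4, 3, 4, 2, 5, 0, 0, 4, 4], [0, 2, 0, 4, 3, 5, 3, 0, 4, 1, 5, 5, 3, 0, 2, 5], [0, 0, 4, 4, 1, 3, 5, 0, 5, 5, 1, 3, 3, 0, 3, 4], [0, 0, 5, 2, 4, 2, 2, 0, 4, 1, 4, 3, 4, 3, 1, 4], [0, 0, 2, 5, 5, 0, 5, 2, 4, 3, 5, 2, 5, 3], [0, 2, 4, 3, 4, 2, 5, 3, 4,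 1, 4, 4, 1, 3], [0, 0, 5, 3, 5, 0, 2, 5, 5, 1, 2, 2, 1, 5, 1, 4], [0, 0, 2, 4, 2, 0, 4, 3, 4, 0, 5, 5, 0, 0, 3, 4], [0, 0, 3, 4, 1, 2, 0, 4, 2, 0, 4, 3, 4, 0, 5, 5], [0, 4, 0, 5, 5, 5, 2, 0, 5, 1, 5, 5, 3, 0, 4, 3], [0, 0, 5, 5, 5, 5, 0, 5, 3, 0, 2, 4, 4, 3, 1, 2], [0, 2, 5, 3, 5, 1, 5, 0, 3, 0, 4, 1, 4, 2, 4, 4], [0, 0, 5, 5, 1, 3, 4, 2, 1, 3, 4, 4, 2, 5, 0, 4], [0, 0, 0, 4, 0, 5, 2, 4, 3, 5, 0, 0, 5, 2, 4], [0, 0, 4, 1, 1, 5, 2, 0, 2, 5, 5, 3, 3, 3, 4], [0, 4, 4, 3, 4, 3, 5, 3, 4, 2, 2, 0, 5, 5, 5, 2], [0, 5, 2, 5, 5, 2, 4, 4, 1, 2, 2, 5, 3, 4, 3, 4], [0, 0, 3, 1, 4, 1, 4, 4, 1, 2, 2, 5, 1, 1, 5, 5], [0, 0, 2, 4, 1, 5, 2, 5, 2, 4, 2, 1, 4, 1, 4, 4], [0, 0, 3, 4, 1, 4, 2, 5, 3, 1, 3, 5, 2, 4, 2, 5], [0, 2,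 4, 3, 5, 3, 4, 3, 0, 5, 5, 5, 5, 3, 0, 4], [0, 0, 5, 3, 1, 5, 2, 5, 3, 4, 3, 1, 4, 0, 5, 3], [0, 2, 1, 4, 1, 5, 0, 2, 5, 2, 4, 3, 4, 0, 2, 4], [0, 0, 4, 3, 5, 2, 4, 4, 2, 2, 0, 4, 4, 0, 3, 4], [0, 4, 4, 4, 1, 3, 4, 3, 4, 4, 1, 2, 2, 4, 2, 5], [0, 0, 5, 1, 4, 3, 3, 5, 1, 2, 4, 1, 4, 3, 5, 5], [0, 2, 2, 0, 4, 2, 5, 2, 5, 0, 5, 3, 1, 4, 4, 2], [0, 0, 4, 2, 1, 4, 1, 4, 2, 0, 4, 4, 2, 0, 0, 5], [0, 0, 4, 2, 2, 2, 0, 5, 5, 0, 5, 2, 0, 0, 4, 4], [0, 0, 5, 2, 1, 3, 0, 5, 3, 3, 4, 4, 3, 1, 3, 4], [0, 2, 1, 4, 2, 1, 4, 4, 0, 5, 3, 5, 0, 5, 2, 4], [0, 0, 5, 3, 4, 1, 4, 2, 4, 1, 5, 5, 0, 3, 5, 3], [0, 0, 4, 2, 4, 0, 4, 1, 1, 4, 4, 2, 4, 2, 0, 5], [0, 0, 4, 3, 1, 3, 5, 5, 2, 2, 2, 5, 1, 1, 4], [0, 4, 1, 4, 2, 4, 2, 5, 5,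 0, 4, 1, 5, 5, 3, 3], [0, 0, 2, 4, 3, 4, 3, 3, 4, 1, 4, 3, 0, 5, 0, 4], [0, 4, 1, 2, 0, 4, 3, 4, 3, 3, 4, 1, 4, 3, 0, 5], [0, 3, 4, 1, 2, 5, 5, 2, 1, 4, 2, 1, 2, 4, 4, 3], [0, 0, 5, 1, 3, 4, 4, 1, 1, 3, 4, 1, 4, 3, 1, 4], [0, 2, 1, 4, 3, 5, 3, 1, 5, 3, 5, 5, 5, 2, 5, 5], [0, 4, 3, 4, 1, 3, 4, 3, 4, 3, 0, 4, 4, 0, 5, 3], [0, 0, 4, 4, 3, 4, 4, 4, 2, 4, 0, 2, 4, 2, 5, 3], [0, 4, 0, 4, 3, 4, 3, 4, 1, 5, 1, 5, 5, 2, 5, 2], [0, 4, 0, 4, 3, 4, 3, 4, 4, 0, 4, 0, 5, 2, 5, 2], [0, 3, 4, 0, 5, 5, 2, 2, 5, 5, 3, 5, 2, 4, 0, 5], [0, 0, 2, 0, 3, 1, 3, 1, 2]]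

/-- the subgroup generator words -/
def subL : List (List ℕ) := [[0], [2]]

/-- the seed relators with their twists -/
def seedL : List (List ℕ × List ℕ) := [([0, 0, 0, 0, 0, 0, 0, 0, 0, 0, 0], [0, 0, 0, 0, 0, 0, 0, 0, 0, 0, 0, 0, 0, 0, 0, 0, 0, 0, 0, 0, 0, 0, 0, 0, 0, 0, 0, 0, 0, 0, 0, 0, 0, 0, 0, 0, 0, 0, 0]), ([2, 2, 2, 2, 2], [0, 0, 0, 0, 0, 0, 0, 0, 0, 0, 0, 0, 0, 0, 0, 0, 0, 0, 0, 0, 0, 0, 0, 0, 0, 0, 0, 0, 0, 0, 0, 0, 0, 0, 0, 0, 0, 0, 0]), ([2, 0, 3, 1, 1, 1], [0, 0, 0, 0, 0, 0, 0, 0, 0, 0, 0, 0, 0, 0, 0, 0, 0, 0, 0, 0, 0, 0, 0, 0, 0, 0, 0, 0, 0, 0, 0, 0, 0, 0, 0, 0, 0, 0, 0]), ([4, 4, 4, 4, 4, 4, 4, 4, 4, 4, 4], [0, 0, 0, 0, 0, 0, 0, 0, 0, 0, 0, 0, 0, 0, 0, 0, 0, 0, 0, 0, 0, 0, 0, 0, 0, 0, 0, 0, 0,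 0, 0, 0, 0, 0, 0, 0, 0, 0, 0]), ([0, 1], [0, 0, 0, 0, 0, 0, 0, 0, 0, 0, 0, 0, 0, 0, 0, 0, 0, 0, 0, 0, 0, 0, 0, 0, 0, 0, 0, 0, 0, 0, 0, 0, 0, 0, 0, 0, 0, 0, 0]), ([1, 0], [0, 0, 0, 0, 0, 0, 0, 0, 0, 0, 0, 0, 0, 0, 0, 0, 0, 0, 0, 0, 0, 0, 0, 0, 0, 0, 0, 0, 0, 0, 0, 0, 0, 0, 0, 0, 0, 0, 0]), ([2, 3], [0, 0, 0, 0, 0, 0, 0, 0, 0, 0, 0, 0, 0, 0, 0, 0, 0, 0, 0, 0, 0, 0, 0, 0, 0, 0, 0, 0, 0, 0, 0, 0, 0, 0, 0, 0, 0, 0, 0]), ([3, 2], [0, 0, 0, 0, 0, 0, 0, 0, 0, 0, 0, 0, 0, 0, 0, 0, 0, 0, 0, 0, 0, 0, 0, 0, 0, 0, 0, 0, 0, 0, 0, 0, 0, 0, 0, 0, 0, 0, 0]), ([4, 5], [0, 0, 0, 0, 0, 0, 0, 0, 0, 0, 0, 0, 0, 0, 0, 0, 0, 0, 0, 0, 0, 0, 0, 0, 0, 0, 0, 0, 0, 0, 0, 0, 0, 0, 0, 0, 0, 0, 0]), ([5, 4], [0, 0, 0, 0, 0, 0, 0, 0, 0, 0,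 0, 0, 0, 0, 0, 0, 0, 0, 0, 0, 0, 0, 0, 0, 0, 0, 0, 0, 0, 0, 0, 0, 0, 0, 0, 0, 0, 0, 0]), ([0, 4, 0, 4, 0, 4, 0, 4], [1, 0, 0, 0, 0, 0, 0, 0, 0, 0, 0, 0, 0, 0, 0, 0, 0, 0, 0, 0, 0, 0, 0, 0, 0, 0, 0, 0, 0, 0, 0, 0, 0, 0, 0, 0, 0, 0, 0]), ([0, 5, 0, 5, 0, 5, 0, 5, 0, 5], [0, 1, 0, 0, 0, 0, 0, 0, 0, 0, 0, 0, 0, 0, 0, 0, 0, 0, 0, 0, 0, 0, 0, 0, 0, 0, 0, 0, 0, 0, 0, 0, 0, 0, 0, 0, 0, 0, 0]), ([0, 4, 1, 5, 0, 4, 1, 5, 0, 4, 1, 5], [0, 0, 1, 0, 0, 0, 0, 0, 0, 0, 0, 0, 0, 0, 0, 0, 0, 0, 0, 0, 0, 0, 0, 0, 0, 0, 0, 0, 0, 0, 0, 0, 0, 0, 0, 0, 0, 0, 0]), ([0, 0, 4, 4, 4, 4, 1, 4, 3, 1, 2, 5, 5], [0, 0, 0, 1, 0, 0, 0, 0, 0, 0, 0, 0, 0, 0, 0, 0, 0, 0, 0, 0, 0, 0, 0, 0, 0, 0, 0, 0, 0, 0, 0, 0, 0, 0, 0, 0, 0, 0, 0]), ([0, 3,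 4, 3, 4, 2, 5, 3, 4, 1, 4, 4, 2], [0, 0, 0, 0, 1, 0, 0, 0, 0, 0, 0, 0, 0, 0, 0, 0, 0, 0, 0, 0, 0, 0, 0, 0, 0, 0, 0, 0, 0, 0, 0, 0, 0, 0, 0, 0, 0, 0, 0]), ([0, 0, 5, 5, 3, 1, 2, 4, 1, 4, 4, 4, 4], [0, 0, 0, 0, 0, 1, 0, 0, 0, 0, 0, 0, 0, 0, 0, 0, 0, 0, 0, 0, 0, 0, 0, 0, 0, 0, 0, 0, 0, 0, 0, 0, 0, 0, 0, 0, 0, 0, 0]), ([0, 0, 2, 5, 5, 5, 0, 4, 3, 0, 4, 4, 0, 4], [0, 0, 0, 0, 0, 0, 1, 0, 0, 0, 0, 0, 0, 0, 0, 0, 0, 0, 0, 0, 0, 0, 0, 0, 0, 0, 0, 0, 0, 0, 0, 0, 0, 0, 0, 0, 0, 0, 0]), ([0, 0, 4, 1, 4, 3, 3, 4, 0, 3, 3, 4, 2, 4], [0, 0, 0, 0, 0, 0, 0, 1, 0, 0, 0, 0, 0, 0, 0, 0, 0, 0, 0, 0, 0, 0, 0, 0, 0, 0, 0, 0, 0, 0, 0, 0, 0, 0, 0, 0, 0, 0, 0]), ([0, 0, 4, 2, 2, 4, 4, 2, 0, 2, 5, 1, 1, 5], [0, 0, 0, 0, 0, 0, 0, 0, 1,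 0, 0, 0, 0, 0, 0, 0, 0, 0, 0, 0, 0, 0, 0, 0, 0, 0, 0, 0, 0, 0, 0, 0, 0, 0, 0, 0, 0, 0, 0]), ([0, 3, 0, 4, 0, 4, 4, 1, 2, 4, 0, 5, 5, 5], [0, 0, 0, 0, 0, 0, 0, 0, 0, 1, 0, 0, 0, 0, 0, 0, 0, 0, 0, 0, 0, 0, 0, 0, 0, 0, 0, 0, 0, 0, 0, 0, 0, 0, 0, 0, 0, 0, 0]), ([0, 0, 4, 1, 1, 5, 2, 0, 2, 5, 5, 2, 2, 4], [0, 0, 0, 0, 0, 0, 0, 0, 0, 0, 1, 0, 0, 0, 0, 0, 0, 0, 0, 0, 0, 0, 0, 0, 0, 0, 0, 0, 0, 0, 0, 0, 0, 0, 0, 0, 0, 0, 0]), ([0, 2, 1, 5, 5, 0, 4, 0, 5, 5, 1, 3, 3, 4, 2], [0, 0, 0, 0, 0, 0, 0, 0, 0, 0, 0, 1, 0, 0, 0, 0, 0, 0, 0, 0, 0, 0, 0, 0, 0, 0, 0, 0, 0, 0, 0, 0, 0, 0, 0, 0, 0, 0, 0]), ([0, 0, 3, 3, 4, 4, 1, 4, 2, 0, 5, 5, 1, 1, 5], [0, 0, 0, 0, 0, 0, 0, 0, 0, 0, 0, 0, 1, 0, 0, 0, 0, 0, 0, 0, 0, 0, 0, 0, 0, 0,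 0, 0, 0, 0, 0, 0, 0, 0, 0, 0, 0, 0, 0]), ([0, 3, 3, 5, 5, 0, 5, 1, 2, 2, 5, 5, 3, 4, 4], [0, 0, 0, 0, 0, 0, 0, 0, 0, 0, 0, 0, 0, 1, 0, 0, 0, 0, 0, 0, 0, 0, 0, 0, 0, 0, 0, 0, 0, 0, 0, 0, 0, 0, 0, 0, 0, 0, 0]), ([0, 0, 3, 4, 2, 5, 2, 5, 0, 5, 3, 1, 4, 4, 3], [0, 0, 0, 0, 0, 0, 0, 0, 0, 0, 0, 0, 0, 0, 1, 0, 0, 0, 0, 0, 0, 0, 0, 0, 0, 0, 0, 0, 0, 0, 0, 0, 0, 0, 0, 0, 0, 0, 0]), ([0, 0, 4, 3, 3, 0, 5, 5, 0, 5, 2, 0, 0, 4, 4], [0, 0, 0, 0, 0, 0, 0, 0, 0, 0, 0, 0, 0, 0, 0, 1, 0, 0, 0, 0, 0, 0, 0, 0, 0, 0, 0, 0, 0, 0, 0, 0, 0, 0, 0, 0, 0, 0, 0]), ([0, 0, 5, 2, 4, 2, 0, 3, 4, 0, 5, 2, 4, 3, 5], [0, 0, 0, 0, 0, 0, 0, 0, 0, 0, 0, 0, 0, 0, 0, 0, 1, 0, 0, 0, 0, 0, 0, 0, 0, 0, 0, 0, 0, 0, 0, 0, 0, 0, 0, 0, 0, 0, 0]), ([0,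 0, 5, 3, 4, 1, 4, 1, 2, 1, 5, 1, 2, 5, 2], [0, 0, 0, 0, 0, 0, 0, 0, 0, 0, 0, 0, 0, 0, 0, 0, 0, 1, 0, 0, 0, 0, 0, 0, 0, 0, 0, 0, 0, 0, 0, 0, 0, 0, 0, 0, 0, 0, 0]), ([0, 2, 5, 5, 2, 2, 4, 1, 4, 0, 5, 0, 5, 5, 5], [0, 0, 0, 0, 0, 0, 0, 0, 0, 0, 0, 0, 0, 0, 0, 0, 0, 0, 1, 0, 0, 0, 0, 0, 0, 0, 0, 0, 0, 0, 0, 0, 0, 0, 0, 0, 0, 0, 0]), ([0, 2, 5, 1, 4, 4, 2, 1, 2, 4, 3, 4, 4, 1, 4], [0, 0, 0, 0, 0, 0, 0, 0, 0, 0, 0, 0, 0, 0, 0, 0, 0, 0, 0, 1, 0, 0, 0, 0, 0, 0, 0, 0, 0, 0, 0, 0, 0, 0, 0, 0, 0, 0, 0]), ([0, 3, 4, 3, 4, 2, 1, 5, 3, 3, 4, 4, 4, 4, 4], [0, 0, 0, 0, 0, 0, 0, 0, 0, 0, 0, 0, 0, 0, 0, 0, 0, 0, 0, 0, 1, 0, 0, 0, 0, 0, 0, 0, 0, 0, 0, 0, 0, 0, 0, 0, 0, 0, 0]), ([0, 0, 5, 3, 4, 2, 4, 1, 3, 4, 1, 5, 0, 2, 5], [0,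 0, 0, 0, 0, 0, 0, 0, 0, 0, 0, 0, 0, 0, 0, 0, 0, 0, 0, 0, 0, 1, 0, 0, 0, 0, 0, 0, 0, 0, 0, 0, 0, 0, 0, 0, 0, 0, 0]), ([0, 0, 5, 3, 5, 0, 2, 5, 5, 0, 2, 2, 5, 1, 4], [0, 0, 0, 0, 0, 0, 0, 0, 0, 0, 0, 0, 0, 0, 0, 0, 0, 0, 0, 0, 0, 0, 1, 0, 0, 0, 0, 0, 0, 0, 0, 0, 0, 0, 0, 0, 0, 0, 0]), ([0, 2, 5, 5, 0, 5, 5, 3, 4, 0, 4, 2, 5, 5, 2], [0, 0, 0, 0, 0, 0, 0, 0, 0, 0, 0, 0, 0, 0, 0, 0, 0, 0, 0, 0, 0, 0, 0, 1, 0, 0, 0, 0, 0, 0, 0, 0, 0, 0, 0, 0, 0, 0, 0]), ([0, 5, 5, 2, 4, 4, 2, 5, 5, 3, 5, 3, 3, 4, 4], [0, 0, 0, 0, 0, 0, 0, 0, 0, 0, 0, 0, 0, 0, 0, 0, 0, 0, 0, 0, 0, 0, 0, 0, 1, 0, 0, 0, 0, 0, 0, 0, 0, 0, 0, 0, 0, 0, 0]), ([0, 4, 4, 1, 2, 4, 3, 5, 5, 1, 4, 4, 2, 5, 2], [0, 0, 0, 0, 0, 0, 0, 0, 0, 0, 0, 0, 0, 0, 0, 0,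 0, 0, 0, 0, 0, 0, 0, 0, 0, 1, 0, 0, 0, 0, 0, 0, 0, 0, 0, 0, 0, 0, 0]), ([0, 0, 4, 4, 1, 3, 3, 4, 3, 4, 2, 5, 5, 0, 4, 4], [0, 0, 0, 0, 0, 0, 0, 0, 0, 0, 0, 0, 0, 0, 0, 0, 0, 0, 0, 0, 0, 0, 0, 0, 0, 0, 1, 0, 0, 0, 0, 0, 0, 0, 0, 0, 0, 0, 0]), ([0, 2, 4, 3, 0, 2, 4, 3, 0, 5, 1, 5, 1, 2, 4, 3], [0, 0, 0, 0, 0, 0, 0, 0, 0, 0, 0, 0, 0, 0, 0, 0, 0, 0, 0, 0, 0, 0, 0, 0, 0, 0, 0, 1, 0, 0, 0, 0, 0, 0, 0, 0, 0, 0, 0]), ([0, 2, 4, 2, 5, 0, 2, 4, 2, 5, 0, 2, 4, 2, 5], [0, 0, 0, 0, 0, 0, 0, 0, 0, 0, 0, 0, 0, 0, 0, 0, 0, 0, 0, 0, 0, 0, 0, 0, 0, 0, 0, 0, 1, 0, 0, 0, 0, 0, 0, 0, 0, 0, 0]), ([0, 0, 2, 4, 1, 2, 4, 2, 0, 4, 3, 0, 0, 5, 0, 5], [0, 0, 0, 0, 0, 0, 0, 0, 0, 0, 0, 0, 0, 0, 0, 0, 0, 0, 0, 0, 0, 0, 0, 0, 0, 0, 0, 0,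 0, 1, 0, 0, 0, 0, 0, 0, 0, 0, 0]), ([0, 3, 0, 4, 0, 4, 2, 1, 4, 2, 0, 4, 0, 4, 3, 5], [0, 0, 0, 0, 0, 0, 0, 0, 0, 0, 0, 0, 0, 0, 0, 0, 0, 0, 0, 0, 0, 0, 0, 0, 0, 0, 0, 0, 0, 0, 1, 0, 0, 0, 0, 0, 0, 0, 0]), ([0, 2, 4, 3, 4, 3, 4, 2, 1, 3, 4, 0, 4, 4, 4, 3], [0, 0, 0, 0, 0, 0, 0, 0, 0, 0, 0, 0, 0, 0, 0, 0, 0, 0, 0, 0, 0, 0, 0, 0, 0, 0, 0, 0, 0, 0, 0, 1, 0, 0, 0, 0, 0, 0, 0]), ([0, 0, 4, 4, 1, 5, 5, 1, 4, 4, 1, 3, 4, 1, 4, 2], [0, 0, 0, 0, 0, 0, 0, 0, 0, 0, 0, 0, 0, 0, 0, 0, 0, 0, 0, 0, 0, 0, 0, 0, 0, 0, 0, 0, 0, 0, 0, 0, 1, 0, 0, 0, 0, 0, 0]), ([0, 2, 4, 4, 1, 5, 0, 5, 2, 2, 0, 4, 0, 3, 3, 5], [0, 0, 0, 0, 0, 0, 0, 0, 0, 0, 0, 0, 0, 0, 0, 0, 0, 0, 0, 0, 0, 0, 0, 0, 0, 0, 0, 0, 0, 0, 0, 0, 0, 1, 0, 0, 0, 0, 0]),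 ([0, 3, 0, 5, 5, 3, 0, 5, 5, 3, 3, 4, 4, 4, 3, 4], [0, 0, 0, 0, 0, 0, 0, 0, 0, 0, 0, 0, 0, 0, 0, 0, 0, 0, 0, 0, 0, 0, 0, 0, 0, 0, 0, 0, 0, 0, 0, 0, 0, 0, 1, 0, 0, 0, 0]), ([0, 0, 3, 5, 2, 0, 0, 5, 5, 1, 3, 5, 0, 2, 0, 5], [0, 0, 0, 0, 0, 0, 0, 0, 0, 0, 0, 0, 0, 0, 0, 0, 0, 0, 0, 0, 0, 0, 0, 0, 0, 0, 0, 0, 0, 0, 0, 0, 0, 0, 0, 1, 0, 0, 0]), ([0, 0, 0, 5, 2, 0, 4, 4, 1, 1, 5, 1, 4, 3, 5, 5], [0, 0, 0, 0, 0, 0, 0, 0, 0, 0, 0, 0, 0, 0, 0, 0, 0, 0, 0, 0, 0, 0, 0, 0, 0, 0, 0, 0, 0, 0, 0, 0, 0, 0, 0, 0, 1, 0, 0]), ([0, 3, 5, 3, 4, 3, 4, 0, 5, 1, 3, 0, 5, 5, 0, 5], [0, 0, 0, 0, 0, 0, 0, 0, 0, 0, 0, 0, 0, 0, 0, 0, 0, 0, 0, 0, 0, 0, 0, 0, 0, 0, 0, 0, 0, 0, 0, 0, 0, 0, 0, 0, 0, 1, 0]), ([0, 0, 5, 0, 5, 3, 5, 5, 2, 5, 0,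 5, 3, 3, 0, 4], [0, 0, 0, 0, 0, 0, 0, 0, 0, 0, 0, 0, 0, 0, 0, 0, 0, 0, 0, 0, 0, 0, 0, 0, 0, 0, 0, 0, 0, 0, 0, 0, 0, 0, 0, 0, 0, 0, 1])]

theorem words_mem : ∀ v ∈ words.toList, (v.2 = true → v.1 ∈ relL) ∧ (v.2 = false → v.1 ∈ subL) := by
  decide +kernel

/-- the seed words are in the seed list -/
noncomputable def seedChk (w : ℕ) : Bool :=
  match WT.get words w with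
  | some (wd, true) => decide ((wd, Ev w) ∈ seedL)
  | _ => true

theorem seed_mem : ∀ w < 51, seedChk w = true := by
  decide +kernel

end Cfsg.Agent.Lib.H16.U62M.P1
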