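import Cfsg.Agent.Lib.H16.U62M.P1.Steps0
import Cfsg.Agent.Lib.H16.U62M.P1.Steps1
import Cfsg.Agent.Lib.H16.U62M.P1.Steps2
import Cfsg.Agent.Lib.H16.U62M.P1.Steps3
import Cfsg.Agent.Lib.H16.U62M.P1.Steps4
import Cfsg.Agent.Lib.H16.U62M.P1.Steps5
import Cfsg.Agent.Lib.H16.U62M.P1.Steps6
import Cfsg.Agent.Lib.H16.U62M.P1.Steps7
import Cfsg.Agent.Lib.H16.U62M.P1.Steps8
import Cfsg.Agent.Lib.H16.U62M.P1.Steps9
import Cfsg.Agent.Lib.H16.U62M.P1.Steps10
import Cfsg.Agent.Lib.H16.U62M.P1.Steps11
import Cfsg.Agent.Lib.H16.U62M.P1.Steps12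
import Cfsg.Agent.Lib.H16.U62M.P1.Steps13
import Cfsg.Agent.Lib.H16.U62M.P1.Steps14
import Cfsg.Agent.Lib.H16.U62M.P1.Steps15
import Cfsg.Agent.Lib.H16.U62M.P1.Steps16
import Cfsg.Agent.Lib.H16.U62M.P1.Steps17

set_option autoImplicit false
set_option maxRecDepth 100000

/-! # Running the monomial certificate, part 0 (generated) -/

namespace Cfsg.Agent.Lib.H16.U62M.P1

open Cfsg.Agent.Lib.H17.CosetCert (BT WT)
open Cfsg.Agent.Lib.H17.MonoCert
open Cfsg.Agent.Lib.H16.G24M

variable {G Q A : Type*} [Group G] [MulAction G Q] [Group A] [MulAction A Q]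
  [SMulCommClass G A Q] (tw : List ℕ → A) (γ : ℕ → G)

theorem run0 (hfree : ∀ (α β : A) (q : Q), α • q = β • q → α = β)
    (htw : TwOK (nadd NN) (List.replicate 39 0) neq tw) (q0 : Q) (hw : WordsOK Ev tw γ q0 words 51) :
    Inv F Ev tw γ q0 words 51477 19277 275 := by
  have h0 := inv_zero F Ev tw γ q0 words 51 hw
  have h1 := checkSteps_sound (nadd NN) (List.replicate 39 0) neq F Ev 6 2097152 tw γ hfree htw q0 words 51 hw steps0 0 1 51 750 354 51 h0 chk0
  have h2 := checkSteps_sound (nadd NN) (List.replicate 39 0) neq F Ev 6 2097152 tw γ hfree htw q0 words 51 hw steps1 750 354 51 1500 714 51 h1 chk1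
  have h3 := checkSteps_sound (nadd NN) (List.replicate 39 0) neq F Ev 6 2097152 tw γ hfree htw q0 words 51 hw steps2 1500 714 51 2250 1092 51 h2 chk2
  have h4 := checkSteps_sound (nadd NN) (List.replicate 39 0) neq F Ev 6 2097152 tw γ hfree htw q0 words 51 hw steps3 2250 1092 51 3000 1462 51 h3 chk3
  have h5 := checkSteps_sound (nadd NN) (List.replicate 39 0) neq F Ev 6 2097152 tw γ hfree htw q0 words 51 hw steps4 3000 1462 51 3750 1828 51 h4 chk4
  have h6 := checkSteps_sound (nadd NN) (List.replicate 39 0) neq F Ev 6 2097152 tw γ hfree htw q0 words 51 hw steps5 3750 1828 51 4500 2202 51 h5 chk5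
  have h7 := checkSteps_sound (nadd NN) (List.replicate 39 0) neq F Ev 6 2097152 tw γ hfree htw q0 words 51 hw steps6 4500 2202 51 5250 2574 51 h6 chk6
  have h8 := checkSteps_sound (nadd NN) (List.replicate 39 0) neq F Ev 6 2097152 tw γ hfree htw q0 words 51 hw steps7 5250 2574 51 6000 2953 51 h7 chk7
  have h9 := checkSteps_sound (nadd NN) (List.replicate 39 0) neq F Ev 6 2097152 tw γ hfree htw q0 words 51 hw steps8 6000 2953 51 6750 3328 51 h8 chk8
  have h10 := checkSteps_sound (nadd NN) (List.replicate 39 0) neq F Ev 6 2097152 tw γ hfree htw q0 words 51 hw steps9 6750 3328 51 7500 3705 51 h9 chk9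
  have h11 := checkSteps_sound (nadd NN) (List.replicate 39 0) neq F Ev 6 2097152 tw γ hfree htw q0 words 51 hw steps10 7500 3705 51 8250 4076 51 h10 chk10
  have h12 := checkSteps_sound (nadd NN) (List.replicate 39 0) neq F Ev 6 2097152 tw γ hfree htw q0 words 51 hw steps11 8250 4076 51 9000 4440 51 h11 chk11
  have h13 := checkSteps_sound (nadd NN) (List.replicate 39 0) neq F Ev 6 2097152 tw γ hfree htw q0 words 51 hw steps12 9000 4440 51 9750 4823 51 h12 chk12
  have h14 := checkSteps_sound (nadd NN) (List.replicate 39 0) neq F Ev 6 2097152 tw γ hfree htw q0 words 51 hw steps13 9750 4823 51 10500 5202 51 h13 chk13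
  have h15 := checkSteps_sound (nadd NN) (List.replicate 39 0) neq F Ev 6 2097152 tw γ hfree htw q0 words 51 hw steps14 10500 5202 51 11250 5574 51 h14 chk14
  have h16 := checkSteps_sound (nadd NN) (List.replicate 39 0) neq F Ev 6 2097152 tw γ hfree htw q0 words 51 hw steps15 11250 5574 51 12000 5956 51 h15 chk15
  have h17 := checkSteps_sound (nadd NN) (List.replicate 39 0) neq F Ev 6 2097152 tw γ hfree htw q0 words 51 hw steps16 12000 5956 51 12750 6330 51 h16 chk16
  have h18 := checkSteps_sound (nadd NN) (List.replicate 39 0) neq F Ev 6 2097152 tw γ hfree htw q0 words 51 hw steps17 12750 6330 51 13500 6700 51 h17 chk17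
  have h19 := checkSteps_sound (nadd NN) (List.replicate 39 0) neq F Ev 6 2097152 tw γ hfree htw q0 words 51 hw steps18 13500 6700 51 14250 7075 51 h18 chk18
  have h20 := checkSteps_sound (nadd NN) (List.replicate 39 0) neq F Ev 6 2097152 tw γ hfree htw q0 words 51 hw steps19 14250 7075 51 15000 7467 51 h19 chk19
  have h21 := checkSteps_sound (nadd NN) (List.replicate 39 0) neq F Ev 6 2097152 tw γ hfree htw q0 words 51 hw steps20 15000 7467 51 15750 7843 51 h20 chk20
  have h22 := checkSteps_sound (nadd NN) (List.replicate 39 0) neq F Ev 6 2097152 tw γ hfree htw q0 words 51 hw steps21 15750 7843 51 16500 8216 51 h21 chk21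
  have h23 := checkSteps_sound (nadd NN) (List.replicate 39 0) neq F Ev 6 2097152 tw γ hfree htw q0 words 51 hw steps22 16500 8216 51 17250 8595 51 h22 chk22
  have h24 := checkSteps_sound (nadd NN) (List.replicate 39 0) neq F Ev 6 2097152 tw γ hfree htw q0 words 51 hw steps23 17250 8595 51 18000 8964 51 h23 chk23
  have h25 := checkSteps_sound (nadd NN) (List.replicate 39 0) neq F Ev 6 2097152 tw γ hfree htw q0 words 51 hw steps24 18000 8964 51 18750 9360 51 h24 chk24
  have h26 := checkSteps_sound (nadd NN) (List.replicate 39 0) neq F Ev 6 2097152 tw γ hfree htw q0 words 51 hw steps25 18750 9360 51 19500 9755 51 h25 chk25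
  have h27 := checkSteps_sound (nadd NN) (List.replicate 39 0) neq F Ev 6 2097152 tw γ hfree htw q0 words 51 hw steps26 19500 9755 51 20250 10132 51 h26 chk26
  have h28 := checkSteps_sound (nadd NN) (List.replicate 39 0) neq F Ev 6 2097152 tw γ hfree htw q0 words 51 hw steps27 20250 10132 51 21000 10500 51 h27 chk27
  have h29 := checkSteps_sound (nadd NN) (List.replicate 39 0) neq F Ev 6 2097152 tw γ hfree htw q0 words 51 hw steps28 21000 10500 51 21750 10878 51 h28 chk28
  have h30 := checkSteps_sound (nadd NN) (List.replicate 39 0) neq F Ev 6 2097152 tw γ hfree htw q0 words 51 hw steps29 21750 10878 51 22500 11263 51 h29 chk29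
  have h31 := checkSteps_sound (nadd NN) (List.replicate 39 0) neq F Ev 6 2097152 tw γ hfree htw q0 words 51 hw steps30 22500 11263 51 23250 11641 51 h30 chk30
  have h32 := checkSteps_sound (nadd NN) (List.replicate 39 0) neq F Ev 6 2097152 tw γ hfree htw q0 words 51 hw steps31 23250 11641 51 24000 12011 51 h31 chk31
  have h33 := checkSteps_sound (nadd NN) (List.replicate 39 0) neq F Ev 6 2097152 tw γ hfree htw q0 words 51 hw steps32 24000 12011 51 24750 12378 51 h32 chk32
  have h34 := checkSteps_sound (nadd NN) (List.replicate 39 0) neq F Ev 6 2097152 tw γ hfree htw q0 words 51 hw steps33 24750 12378 51 25500 12754 51 h33 chk33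
  have h35 := checkSteps_sound (nadd NN) (List.replicate 39 0) neq F Ev 6 2097152 tw γ hfree htw q0 words 51 hw steps34 25500 12754 51 26250 13126 51 h34 chk34
  have h36 := checkSteps_sound (nadd NN) (List.replicate 39 0) neq F Ev 6 2097152 tw γ hfree htw q0 words 51 hw steps35 26250 13126 51 27000 13510 51 h35 chk35
  have h37 := checkSteps_sound (nadd NN) (List.replicate 39 0) neq F Ev 6 2097152 tw γ hfree htw q0 words 51 hw steps36 27000 13510 51 27750 13886 51 h36 chk36
  have h38 := checkSteps_sound (nadd NN) (List.replicate 39 0) neq F Ev 6 2097152 tw γ hfree htw q0 words 51 hw steps37 27750 13886 51 28500 14269 51 h37 chk37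
  have h39 := checkSteps_sound (nadd NN) (List.replicate 39 0) neq F Ev 6 2097152 tw γ hfree htw q0 words 51 hw steps38 28500 14269 51 29250 14665 51 h38 chk38
  have h40 := checkSteps_sound (nadd NN) (List.replicate 39 0) neq F Ev 6 2097152 tw γ hfree htw q0 words 51 hw steps39 29250 14665 51 30000 15032 51 h39 chk39
  have h41 := checkSteps_sound (nadd NN) (List.replicate 39 0) neq F Ev 6 2097152 tw γ hfree htw q0 words 51 hw steps40 30000 15032 51 30750 15402 51 h40 chk40
  have h42 := checkSteps_sound (nadd NN) (List.replicate 39 0) neq F Ev 6 2097152 tw γ hfree htw q0 words 51 hw steps41 30750 15402 51 31500 15777 51 h41 chk41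
  have h43 := checkSteps_sound (nadd NN) (List.replicate 39 0) neq F Ev 6 2097152 tw γ hfree htw q0 words 51 hw steps42 31500 15777 51 32250 16160 51 h42 chk42
  have h44 := checkSteps_sound (nadd NN) (List.replicate 39 0) neq F Ev 6 2097152 tw γ hfree htw q0 words 51 hw steps43 32250 16160 51 33000 16539 51 h43 chk43
  have h45 := checkSteps_sound (nadd NN) (List.replicate 39 0) neq F Ev 6 2097152 tw γ hfree htw q0 words 51 hw steps44 33000 16539 51 33750 16928 51 h44 chk44
  have h46 := checkSteps_sound (nadd NN) (List.replicate 39 0) neq F Ev 6 2097152 tw γ hfree htw q0 words 51 hw steps45 33750 16928 51 34500 17326 51 h45 chk45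
  have h47 := checkSteps_sound (nadd NN) (List.replicate 39 0) neq F Ev 6 2097152 tw γ hfree htw q0 words 51 hw steps46 34500 17326 51 35250 17722 51 h46 chk46
  have h48 := checkSteps_sound (nadd NN) (List.replicate 39 0) neq F Ev 6 2097152 tw γ hfree htw q0 words 51 hw steps47 35250 17722 51 36000 18108 51 h47 chk47
  have h49 := checkSteps_sound (nadd NN) (List.replicate 39 0) neq F Ev 6 2097152 tw γ hfree htw q0 words 51 hw steps48 36000 18108 51 36750 18504 51 h48 chk48
  have h50 := checkSteps_sound (nadd NN) (List.replicate 39 0) neq F Ev 6 2097152 tw γ hfree htw q0 words 51 hw steps49 36750 18504 51 37500 18889 51 h49 chk49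
  have h51 := checkSteps_sound (nadd NN) (List.replicate 39 0) neq F Ev 6 2097152 tw γ hfree htw q0 words 51 hw steps50 37500 18889 51 38250 19277 51 h50 chk50
  have h52 := checkSteps_sound (nadd NN) (List.replicate 39 0) neq F Ev 6 2097152 tw γ hfree htw q0 words 51 hw steps51 38250 19277 51 38999 19277 52 h51 chk51
  have h53 := checkSteps_sound (nadd NN) (List.replicate 39 0) neq F Ev 6 2097152 tw γ hfree htw q0 words 51 hw steps52 38999 19277 52 39748 19277 53 h52 chk52
  have h54 := checkSteps_sound (nadd NN) (List.replicate 39 0) neq F Ev 6 2097152 tw γ hfree htw q0 words 51 hw steps53 39748 19277 53 40497 19277 54 h53 chk53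
  have h55 := checkSteps_sound (nadd NN) (List.replicate 39 0) neq F Ev 6 2097152 tw γ hfree htw q0 words 51 hw steps54 40497 19277 54 41246 19277 55 h54 chk54
  have h56 := checkSteps_sound (nadd NN) (List.replicate 39 0) neq F Ev 6 2097152 tw γ hfree htw q0 words 51 hw steps55 41246 19277 55 41989 19277 62 h55 chk55
  have h57 := checkSteps_sound (nadd NN) (List.replicate 39 0) neq F Ev 6 2097152 tw γ hfree htw q0 words 51 hw steps56 41989 19277 62 42723 19277 78 h56 chk56
  have h58 := checkSteps_sound (nadd NN) (List.replicate 39 0) neq F Ev 6 2097152 tw γ hfree htw q0 words 51 hw steps57 42723 19277 78 43433 19277 118 h57 chk57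
  have h59 := checkSteps_sound (nadd NN) (List.replicate 39 0) neq F Ev 6 2097152 tw γ hfree htw q0 words 51 hw steps58 43433 19277 118 44157 19277 144 h58 chk58
  have h60 := checkSteps_sound (nadd NN) (List.replicate 39 0) neq F Ev 6 2097152 tw γ hfree htw q0 words 51 hw steps59 44157 19277 144 44875 19277 176 h59 chk59
  have h61 := checkSteps_sound (nadd NN) (List.replicate 39 0) neq F Ev 6 2097152 tw γ hfree htw q0 words 51 hw steps60 44875 19277 176 45605 19277 196 h60 chk60
  have h62 := checkSteps_sound (nadd NN) (List.replicate 39 0) neq F Ev 6 2097152 tw γ hfree htw q0 words 51 hw steps61 45605 19277 196 46338 19277 213 h61 chk61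
  have h63 := checkSteps_sound (nadd NN) (List.replicate 39 0) neq F Ev 6 2097152 tw γ hfree htw q0 words 51 hw steps62 46338 19277 213 47078 19277 223 h62 chk62
  have h64 := checkSteps_sound (nadd NN) (List.replicate 39 0) neq F Ev 6 2097152 tw γ hfree htw q0 words 51 hw steps63 47078 19277 223 47820 19277 231 h63 chk63
  have h65 := checkSteps_sound (nadd NN) (List.replicate 39 0) neq F Ev 6 2097152 tw γ hfree htw q0 words 51 hw steps64 47820 19277 231 48570 19277 231 h64 chk64
  have h66 := checkSteps_sound (nadd NN) (List.replicate 39 0) neq F Ev 6 2097152 tw γ hfree htw q0 words 51 hw steps65 48570 19277 231 49320 19277 231 h65 chk65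
  have h67 := checkSteps_sound (nadd NN) (List.replicate 39 0) neq F Ev 6 2097152 tw γ hfree htw q0 words 51 hw steps66 49320 19277 231 50070 19277 231 h66 chk66
  have h68 := checkSteps_sound (nadd NN) (List.replicate 39 0) neq F Ev 6 2097152 tw γ hfree htw q0 words 51 hw steps67 50070 19277 231 50820 19277 231 h67 chk67
  have h69 := checkSteps_sound (nadd NN) (List.replicate 39 0) neq F Ev 6 2097152 tw γ hfree htw q0 words 51 hw steps68 50820 19277 231 51477 19277 275 h68 chk68
  exact h69

end Cfsg.Agent.Lib.H16.U62M.P1
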